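import Cfsg.Agent.S4Comp.Action
import Cfsg.Agent.Coprime.Basic

/-!
# The codimension of the fixed points on a section moved by the odd elements
-/

set_option autoImplicit false

namespace Cfsg.Agent.S4Comp

open Subgroup
open Cfsg.Agent.SfFree (cj ea_commute ea_sq)
open scoped commutatorElement

universe u

variable {G : Type u} [Group G]

/-- The odd elements act trivially on `Y / X`. -/
def OT (Y X : Subgroup G) : Prop := ∀ x : G, Odd (orderOf x) → ∀ y ∈ Y, x * y * x⁻¹ * y⁻¹ ∈ X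

/-- The elements of `Y` fixed by `A` modulo the normal subgroup `X`. -/
def fixMod (A Y X : Subgroup G) [X.Normal] : Subgroup G :=
  Y ⊓ (centralizer (A.map (QuotientGroup.mk' X) : Set (G ⧸ X))).comap (QuotientGroup.mk' X)

theorem commute_mk_iff {X : Subgroup G} [X.Normal] {a b : G} :
    Commute (QuotientGroup.mk' X a) (QuotientGroup.mk' X b) ↔ a * b * a⁻¹ * b⁻¹ ∈ X := by
  rw [← QuotientGroup.eq_one_iff (N := X), ← commutatorElement_eq_one_iff_commute, commutatorElement_def]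
  rfl

theorem mem_fixMod {A Y X : Subgroup G} [X.Normal] {y : G} :
    y ∈ fixMod A Y X ↔ y ∈ Y ∧ ∀ a ∈ A, Commute (QuotientGroup.mk' X a) (QuotientGroup.mk' X y) := by
  refine and_congr Iff.rfl ⟨fun h a ha => mem_centralizer_iff.1 h _ (mem_map_of_mem _ ha), fun h => ?_⟩
  refine mem_centralizer_iff.2 ?_
  rintro _ ⟨a, ha, rfl⟩
  exact (h a ha).eq

theorem fixMod_bot (A Y : Subgroup G) : fixMod A Y ⊥ = Y ⊓ centralizer (A : Set G) := by
  ext y
  rw [mem_fixMod, mem_inf, mem_centralizer_iff]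
  simp only [commute_mk_iff, mem_bot, mul_inv_eq_one]
  exact and_congr_right' (forall_congr' fun a => imp_congr_right fun _ => mul_inv_eq_iff_eq_mul)

variable [Finite G]

theorem card_map_mk (R X : Subgroup G) [X.Normal] :
    Nat.card (R.map (QuotientGroup.mk' X)) * Nat.card (R ⊓ X : Subgroup G) = Nat.card R := by
  let π := (QuotientGroup.mk' X).comp R.subtype
  have h1 := π.ker.card_eq_card_quotient_mul_card_subgroup
  rw [Nat.card_congr (QuotientGroup.quotientKerEquivRange π).toEquiv,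
    show π.range = R.map (QuotientGroup.mk' X) from by rw [MonoidHom.range_comp, range_subtype],
    show π.ker = X.subgroupOf R from by rw [← MonoidHom.comap_ker, QuotientGroup.ker_mk']; rfl] at h1
  rw [h1, ← inf_subgroupOf_left X R, Nat.card_congr (subgroupOfEquivOfLe inf_le_left).toEquiv]

/-- A subgroup with a Sylow 2-subgroup and all odd elements is everything. -/
theorem eq_top_of_odd (S : Sylow 2 G) {H : Subgroup G} (hS : (S : Subgroup G) ≤ H)
    (hodd : ∀ x : G, Odd (orderOf x) → x ∈ H) : H = ⊤ := by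
  have := Fact.mk Nat.prime_two
  by_contra hne
  have h1 : H.index ≠ 1 := fun h => hne (index_eq_one.1 h)
  obtain ⟨p, hp, hpd⟩ := Nat.exists_prime_and_dvd h1
  have hp2 : p ≠ 2 := by
    rintro rfl
    exact S.not_dvd_index (hpd.trans (index_dvd_of_le hS))
  have := Fact.mk hp
  obtain ⟨P⟩ := (inferInstance : Nonempty (Sylow p G))
  have hPH : (P : Subgroup G) ≤ H := fun x hx => hodd x (by
    obtain ⟨i, hi⟩ := IsPGroup.iff_orderOf.1 P.2 ⟨x, hx⟩
    rw [Subgroup.orderOf_mk] at hi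
    rw [hi]
    exact (hp.odd_of_ne_two hp2).pow)
  exact P.not_dvd_index (hpd.trans (index_dvd_of_le hPH))

/-- Odd elements lie in normal subgroups with 2-power index. -/
theorem mem_of_odd (S : Sylow 2 G) {N : Subgroup G} [N.Normal] (hN : N ⊔ (S : Subgroup G) = ⊤)
    {x : G} (hx : Odd (orderOf x)) : x ∈ N := by
  obtain ⟨n, hn, s, hs, e⟩ := mem_sup_of_normal_left.1 (hN.ge (mem_top x))
  have he : QuotientGroup.mk' N x = QuotientGroup.mk' N s := by
    rw [← e, map_mul, show QuotientGroup.mk' N n = 1 from (QuotientGroup.eq_one_iff n).2 hn, one_mul]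
  obtain ⟨i, hi⟩ := S.2 ⟨s, hs⟩
  have h1 : orderOf (QuotientGroup.mk' N x) ∣ 2 ^ i := orderOf_dvd_of_pow_eq_one (by
    rw [he, ← map_pow, show s ^ 2 ^ i = 1 from congrArg Subtype.val hi, map_one])
  have h2 : orderOf (QuotientGroup.mk' N x) ∣ orderOf x := orderOf_map_dvd _ _
  have h3 : (2 ^ i).Coprime (orderOf x) := (Nat.coprime_two_left.2 hx).pow_left i
  exact (QuotientGroup.eq_one_iff x).1 (orderOf_eq_one_iff.1 (Nat.eq_one_of_dvd_coprimes h3 h1 h2))

theorem ot_of_series {X Z Y : Subgroup G} [hX : X.Normal] (hZp : IsPGroup 2 Z)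
    (h1 : OT Y Z) (h2 : OT Z X) : OT Y X := by
  intro x hx y hy
  refine commute_mk_iff.1 (QdFree.ZJControl.commute_of_stable (Q := Z.map (QuotientGroup.mk' X))
    (hZp.map _) ?_ ?_ ?_)
  · exact Nat.coprime_two_right.2 (hx.of_dvd_nat (orderOf_map_dvd _ _))
  · refine mem_centralizer_iff.2 ?_
    rintro _ ⟨z, hz, rfl⟩
    exact (commute_mk_iff.2 (h2 x hx z hz)).eq.symm
  · refine ⟨x * y * x⁻¹ * y⁻¹, h1 x hx y hy, ?_⟩
    simp

variable {S : Sylow 2 G} {A : Subgroup G}

/-- The codimension bound. -/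
theorem sec_codim (h : Hyp G)
    (hsmall : ∀ N : Subgroup G, N.Normal → N ⊔ (S : Subgroup G) ≠ ⊤ → (S : Subgroup G) ⊓ N ≤ Cfsg.pCore 2 G)
    (hAS : A ≤ S) (hA : Cfsg.IsElementaryAbelian 2 A) {P : Subgroup G}
    (hP : Cfsg.IsElementaryAbelian 2 P) :
    ∀ (n : ℕ) (Y X : Subgroup G) [X.Normal], Y.Normal → X ≤ Y → Y ≤ P → Nat.card Y - Nat.card X ≤ n →
      ¬ OT Y X →
      Nat.card A ^ 2 * Nat.card (fixMod A Y X) ≤
        Nat.card Y * Nat.card (A ⊓ Cfsg.pCore 2 G : Subgroup G) ^ 2 := by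
  intro n
  induction n with
  | zero =>
    intro Y X _ _ hXY _ hn hot
    refine absurd (fun x hx y hy => ?_) hot
    have e : X = Y := eq_of_le_of_card_ge hXY (by omega)
    have hy' : y ∈ X := e.ge hy
    exact mul_mem ((inferInstance : X.Normal).conj_mem y hy' x) (inv_mem hy')
  | succ n ih =>
  intro Y X hXn hYn hXY hYP hn hot
  have := Fact.mk Nat.prime_two
  have := hYn
  have hYp : IsPGroup 2 Y := (Thompson.ea_isPGroup hP).to_le hYP
  set π := QuotientGroup.mk' X
  have hπ := QuotientGroup.mk'_surjective X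
  by_cases hZ : ∃ Z : Subgroup G, Z.Normal ∧ X < Z ∧ Z < Y
  · obtain ⟨Z, hZn, hXZ, hZY⟩ := hZ
    have c1 := Core.card_lt_of_lt hXZ
    have c2 := Core.card_lt_of_lt hZY
    by_cases h1 : OT Z X
    · have h2 : ¬ OT Y Z := fun h2 => hot (ot_of_series (hYp.to_le hZY.le) h2 h1)
      refine le_trans (Nat.mul_le_mul_left _ (card_le_of_le fun y hy => ?_))
        (ih Y Z hYn hZY.le hYP (by omega) h2)
      rw [mem_fixMod] at hy ⊢
      exact ⟨hy.1, fun a ha => commute_mk_iff.2 (hXZ.le (commute_mk_iff.1 (hy.2 a ha)))⟩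
    · have hb := ih Z X hZn hXZ.le (hZY.le.trans hYP) (by omega) h1
      set F := fixMod A Y X
      have hF : F ⊓ Z = fixMod A Z X := by
        ext y
        simp only [F, mem_inf, mem_fixMod]
        exact ⟨fun hy => ⟨hy.2, hy.1.2⟩, fun hy => ⟨⟨hZY.le hy.1, hy.2⟩, hy.1⟩⟩
      have e := SfFree.card_mul_card_le F Z
      have hle : Nat.card (F ⊔ Z : Subgroup G) ≤ Nat.card Y :=
        card_le_of_le (sup_le inf_le_left hZY.le)
      rw [hF] at e
      refine Nat.le_of_mul_le_mul_right ?_ (Nat.card_pos (α := Z))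
      calc Nat.card A ^ 2 * Nat.card F * Nat.card Z = Nat.card A ^ 2 * (Nat.card F * Nat.card Z) := by ring
        _ ≤ Nat.card A ^ 2 * (Nat.card Y * Nat.card (fixMod A Z X)) :=
          Nat.mul_le_mul_left _ (e.trans (Nat.mul_le_mul_right _ hle))
        _ = Nat.card Y * (Nat.card A ^ 2 * Nat.card (fixMod A Z X)) := by ring
        _ ≤ Nat.card Y * (Nat.card Z * Nat.card (A ⊓ Cfsg.pCore 2 G : Subgroup G) ^ 2) :=
          Nat.mul_le_mul_left _ hb
        _ = _ := by ring
  -- a chief factor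
  push Not at hZ
  set M := Y.map π
  have hMn : M.Normal := hYn.map π hπ
  have hMe : Cfsg.IsElementaryAbelian 2 M := Thompson.ea_map (Thompson.ea_mono hP hYP) π
  have hXker : X = π.ker := (QuotientGroup.ker_mk' X).symm
  have hmin : ∀ Zb : Subgroup (G ⧸ X), Zb.Normal → Zb ≤ M → Zb ≠ M → Zb = ⊥ := by
    intro Zb hZb hle hne
    set Z := Zb.comap π
    have hXZ : X ≤ Z := hXker ▸ ker_le_comap π Zb
    have hZY : Z ≤ Y := by
      refine (comap_mono hle).trans ?_
      rw [comap_map_eq, ← hXker]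
      exact sup_le le_rfl hXY
    have hZb' : Z.map π = Zb := map_comap_eq_self_of_surjective hπ Zb
    by_contra hb
    refine hZ Z (hZb.comap π) (lt_of_le_of_ne hXZ fun e => hb ?_) (lt_of_le_of_ne hZY fun e => hne ?_)
    · rw [← hZb', ← e, QuotientGroup.map_mk'_self]
    · rw [← hZb', e]
  set N := centralizer (M : Set (G ⧸ X))
  set pre := N.comap π
  have hpre : pre ⊔ (S : Subgroup G) ≠ ⊤ := by
    intro htop
    refine hot fun x hx y hy => ?_
    exact commute_mk_iff.1 (mem_centralizer_iff.1 (mem_of_odd S htop hx : x ∈ pre) _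
      (mem_map_of_mem π hy)).symm
  have hSpre := hsmall pre inferInstance hpre
  have hMne : M ≠ ⊥ := by
    intro e
    refine hot fun x _ y hy => ?_
    have hy' : y ∈ X := (QuotientGroup.eq_one_iff y).1 (mem_bot.1 (e ▸ mem_map_of_mem π hy))
    exact mul_mem (hXn.conj_mem y hy' x) (inv_mem hy')
  have htriv : ∀ R : Subgroup (G ⧸ X), IsPGroup 2 R → ∀ D : Subgroup (G ⧸ X), D.Normal →
      ⁅M, D⁆ ≤ ⁅M, R⁆ → D ≤ N := by
    intro R hR D hD hle
    have hlt : ⁅M, R⁆ < M := Coprime.commutator_lt_of_isPGroup hR (Thompson.ea_isPGroup hMe)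
      (by rw [normalizer_eq_top_iff.2 hMn]; exact le_top) hMne
    have hb := hmin ⁅M, D⁆ inferInstance (commutator_le_left M D) (hle.trans_lt hlt).ne
    exact le_centralizer_iff.1 (commutator_eq_bot_iff_le_centralizer.1 hb)
  have hQn : (Cfsg.pCore 2 G).Normal := Core.pCore_normal
  have hQpre : Cfsg.pCore 2 G ≤ pre := map_le_iff_le_comap.1
    (htriv _ (Core.pCore_isPGroup.map π) _ (hQn.map π hπ) le_rfl)
  have hO : Cfsg.pCore 2 ((G ⧸ X) ⧸ N) = ⊥ := by
    have hn' : (Cfsg.pCore 2 ((G ⧸ X) ⧸ N)).Normal := Core.pCore_normal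
    set D := (Cfsg.pCore 2 ((G ⧸ X) ⧸ N)).comap (QuotientGroup.mk' N)
    let Sb := S.mapSurjective hπ
    obtain ⟨R, hR⟩ := Invol.exists_sylow_eq_inf Sb D
    have hDN : D ≤ N := by
      refine htriv ((Sb : Subgroup (G ⧸ X)) ⊓ D) (Sb.2.to_le inf_le_left) D inferInstance ?_
      rw [commutator_le]
      intro m hm d hd
      let ψ := (QuotientGroup.mk' N).subgroupComap (Cfsg.pCore 2 ((G ⧸ X) ⧸ N))
      have hψ : Function.Surjective ψ := fun z => by
        obtain ⟨w, hw⟩ := QuotientGroup.mk'_surjective N z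
        exact ⟨⟨w, show QuotientGroup.mk' N w ∈ _ from hw ▸ z.2⟩, Subtype.ext hw⟩
      have htop : (R : Subgroup D).map ψ = ⊤ :=
        ((R.mapSurjective hψ).3 (Core.pCore_isPGroup.to_subgroup ⊤) le_top).symm.trans rfl
      obtain ⟨r, hr, hrd⟩ := htop.ge (mem_top (ψ ⟨d, hd⟩))
      rw [hR] at hr
      have hc : d * (r : G ⧸ X)⁻¹ ∈ N := (QuotientGroup.eq_one_iff _).1 (by
        have h' : QuotientGroup.mk' N (r : G ⧸ X) = QuotientGroup.mk' N d := congrArg Subtype.val hrd
        show QuotientGroup.mk' N (d * (r : G ⧸ X)⁻¹) = 1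
        rw [map_mul, map_inv, h', mul_inv_cancel])
      have hcr : ⁅m, (r : G ⧸ X)⁆ ∈ M := commutator_le_left M ⊤ (commutator_mem_commutator hm (mem_top _))
      have e : ⁅m, d⁆ = ⁅m, (r : G ⧸ X)⁆ := by
        set c := d * (r : G ⧸ X)⁻¹ with hcdef
        rw [show d = c * (r : G ⧸ X) by rw [hcdef, inv_mul_cancel_right],
          commutatorElement_def, commutatorElement_def]
        have h1 : m * c = c * m := mem_centralizer_iff.1 hc m hm
        calc m * (c * (r : G ⧸ X)) * m⁻¹ * (c * (r : G ⧸ X))⁻¹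
            = (m * c) * (r : G ⧸ X) * m⁻¹ * (r : G ⧸ X)⁻¹ * c⁻¹ := by group
          _ = c * ⁅m, (r : G ⧸ X)⁆ * c⁻¹ := by rw [h1, commutatorElement_def]; group
          _ = _ := by rw [← mem_centralizer_iff.1 hc _ hcr, mul_inv_cancel_right, commutatorElement_def]
      rw [e]
      exact commutator_mem_commutator hm (mem_subgroupOf.1 hr)
    have := map_mono (f := QuotientGroup.mk' N) hDN
    rw [map_comap_eq_self_of_surjective (QuotientGroup.mk'_surjective N), QuotientGroup.map_mk'_self] at this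
    exact le_bot_iff.1 this
  have h3 : ¬ Cfsg.Involves (Equiv.Perm (Fin 3)) ((G ⧸ X) ⧸ N) := fun hh => by
    let f : G ⧸ Cfsg.pCore 2 G →* (G ⧸ X) ⧸ N := QuotientGroup.lift _ ((QuotientGroup.mk' N).comp π)
      fun q hq => (QuotientGroup.eq_one_iff _).2 (hQpre hq)
    refine h.noS3 (QdFree.involves_of_surjective hh (f := f) fun y => ?_)
    obtain ⟨z, rfl⟩ := QuotientGroup.mk_surjective y
    obtain ⟨w, rfl⟩ := QuotientGroup.mk_surjective z
    exact ⟨w, rfl⟩
  have hb := (sq_bound_action hMe hO h3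
    ((h.comp.of_surjective π hπ).of_surjective _ (QuotientGroup.mk'_surjective N))
    (R := A.map π) (eaMod_of_ea (Thompson.ea_map hA π))).1
  -- translate
  set aX := Nat.card (A ⊓ X : Subgroup G)
  have eA := card_map_mk A X
  have eY : Nat.card M * Nat.card X = Nat.card Y := by
    have := card_map_mk Y X
    rwa [inf_eq_right.2 hXY] at this
  have eF : Nat.card (M ⊓ centralizer (A.map π : Set (G ⧸ X)) : Subgroup (G ⧸ X)) * Nat.card X =
      Nat.card (fixMod A Y X) := by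
    have hXF : X ≤ fixMod A Y X := fun z hz => mem_fixMod.2 ⟨hXY hz, fun a _ => by
      show Commute (π a) (π z)
      rw [show π z = 1 from (QuotientGroup.eq_one_iff z).2 hz]; exact Commute.one_right _⟩
    have := card_map_mk (fixMod A Y X) X
    rw [inf_eq_right.2 hXF] at this
    rw [← this, show (fixMod A Y X).map π = M ⊓ centralizer (A.map π : Set (G ⧸ X)) from ?_]
    refine le_antisymm ?_ ?_
    · rintro _ ⟨z, hz, rfl⟩; exact ⟨mem_map_of_mem π hz.1, hz.2⟩
    · rintro _ ⟨⟨z, hz, rfl⟩, hc⟩; exact ⟨z, ⟨hz, hc⟩, rfl⟩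
  have eN : Nat.card (A.map π ⊓ N : Subgroup (G ⧸ X)) * aX ≤
      Nat.card (A ⊓ Cfsg.pCore 2 G : Subgroup G) := by
    have hle : A ⊓ pre ≤ A ⊓ Cfsg.pCore 2 G := le_inf inf_le_left ((inf_le_inf_right _ hAS).trans hSpre)
    refine le_trans ?_ (card_le_of_le hle)
    rw [← card_map_mk (A ⊓ pre) X]
    refine Nat.mul_le_mul (card_le_of_le ?_) (card_le_of_le ?_)
    · rintro _ ⟨⟨a, ha, rfl⟩, hN'⟩
      exact ⟨a, ⟨ha, hN'⟩, rfl⟩
    · exact fun z hz => ⟨⟨hz.1, show π z ∈ N by
        rw [show π z = 1 from (QuotientGroup.eq_one_iff z).2 hz.2]; exact one_mem _⟩, hz.2⟩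
  rw [← eA, ← eF, ← eY]
  calc (Nat.card (A.map π) * aX) ^ 2 *
        (Nat.card (M ⊓ centralizer (A.map π : Set (G ⧸ X)) : Subgroup (G ⧸ X)) * Nat.card X)
      = Nat.card (A.map π) ^ 2 * Nat.card (M ⊓ centralizer (A.map π : Set (G ⧸ X)) : Subgroup (G ⧸ X)) *
          (aX ^ 2 * Nat.card X) := by ring
    _ ≤ Nat.card M * Nat.card (A.map π ⊓ N : Subgroup (G ⧸ X)) ^ 2 * (aX ^ 2 * Nat.card X) :=
      Nat.mul_le_mul_right _ hb
    _ = Nat.card M * Nat.card X * (Nat.card (A.map π ⊓ N : Subgroup (G ⧸ X)) * aX) ^ 2 := by ring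
    _ ≤ _ := Nat.mul_le_mul_left _ (Nat.pow_le_pow_left eN 2)

end Cfsg.Agent.S4Comp
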