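import Cfsg.Agent.S4Comp.Main
import Cfsg.Agent.Control.CentralFunctor
import Cfsg.Agent.Fusion.Alperin
import Cfsg.Agent.S4Free.Abelian

/-!
# Sections, and factorisations in constrained groups
-/

set_option autoImplicit false

namespace Cfsg.Agent.S4Comp

open Subgroup
open Cfsg.Agent.SfFree (Mem jS le_jS jS_le cj cj_cj ea_commute ea_sq)
open Cfsg.Agent.S3Free (CompK)
open Cfsg.Agent.Control (cjSub SylIn)
open scoped commutatorElement

universe u

variable {G : Type u} [Group G]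

/-- The hypothesis on all sections. -/
structure SecHyp (G : Type u) [Group G] : Prop where
  free : ¬ Cfsg.Involves (Equiv.Perm (Fin 4)) G
  sec : ∀ (X : Type u) [Group X] [Finite X] (K : Subgroup G) (f : K →* X), Function.Surjective f →
    centralizer (Cfsg.pCore 2 X : Set X) ≤ Cfsg.pCore 2 X → CompK X

theorem SecHyp.subgroup (h : SecHyp G) (H : Subgroup G) : SecHyp H := by
  refine ⟨fun hh => h.free (QdFree.involves_of_subgroup hh), fun X _ _ K f hf hX => ?_⟩
  let e := K.equivMapOfInjective H.subtype H.subtype_injective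
  exact h.sec X (K.map H.subtype) (f.comp e.symm.toMonoidHom) (hf.comp e.symm.surjective) hX

theorem SecHyp.of_surjective (h : SecHyp G) {Y : Type u} [Group Y] (π : G →* Y)
    (hπ : Function.Surjective π) : SecHyp Y := by
  refine ⟨fun hh => h.free (QdFree.involves_of_surjective hh hπ), fun X _ _ K f hf hX => ?_⟩
  refine h.sec X (K.comap π) (f.comp (π.subgroupComap K)) (hf.comp fun y => ?_) hX
  obtain ⟨x, hx⟩ := hπ (y : Y)
  exact ⟨⟨x, show π x ∈ K from hx ▸ y.2⟩, Subtype.ext hx⟩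

variable [Finite G]

theorem SecHyp.hyp (h : SecHyp G)
    (hc : centralizer (Cfsg.pCore 2 G : Set G) ≤ Cfsg.pCore 2 G) : Hyp G :=
  ⟨hc, h.free, h.sec G ⊤ (⊤ : Subgroup G).subtype (fun x => ⟨⟨x, mem_top x⟩, rfl⟩) hc⟩

/-- The centre of a 2-group lies in `Ĵ`. -/
theorem center_le_jh (H : Subgroup G) : H ⊓ centralizer (H : Set G) ≤ jh H := by
  have hT : jS H ⊔ (H ⊓ centralizer (H : Set G)) ≤ H := sup_le (jS_le H) inf_le_left
  refine le_sup_right.trans (le_jh hT ?_ le_sup_left)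
  intro V hV _ hVe hVs
  have hmem : ∀ A, Mem H A → A ≤ centralizer (V : Set G) := fun A hA =>
    mem_le_centralizer (hV.trans hT) hVe hA fun hn =>
      (hVs A ((le_jS hA).trans le_sup_left) (eaMod_of_ea hA.2.1) hn).1
  refine sup_le (iSup₂_le hmem) ?_
  exact inf_le_right.trans (centralizer_le (hV.trans hT))

theorem wJ_le_jS (S : Subgroup G) : wJ S ≤ jS S := by
  obtain ⟨A, hA⟩ := SfFree.exists_mem S
  refine (hA.le_of_centralizer ((wJ_le_jh S).trans (jh_le S)) (wJ_ea S) ?_).trans (le_jS hA)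
  exact le_centralizer_iff.1 ((le_jS hA).trans ((jS_le_jh S).trans (jh_le_centralizer_wJ S)))

theorem wJ_le_wJ {S T : Subgroup G} (hT : T ≤ S) (hJ : jS S ≤ T) : wJ S ≤ wJ T := by
  have e := jS_eq_of_le hT hJ
  have hle : jh T ≤ jh S := iSup₂_le fun U hU => le_jh (hU.1.trans hT) hU.2.1 (e ▸ hU.2.2)
  intro w hw
  refine Thompson.mem_omegaOne (mem_inf.2 ⟨?_, ?_⟩) ((wJ_ea S).2 w hw)
  · exact jS_le_jh T (e.symm ▸ wJ_le_jS S hw)
  · exact centralizer_le hle (le_centralizer_iff.1 (jh_le_centralizer_wJ S) hw)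

/-- `J` is weakly closed. -/
theorem cj_jS {S : Subgroup G} {h : G} (hh : cj h (jS S) ≤ S) : cj h (jS S) = jS S := by
  refine eq_of_le_of_card_ge ?_ (SfFree.card_cj h _).ge
  rw [jS, SfFree.cj, Subgroup.map_iSup]
  refine iSup_le fun A => ?_
  rw [Subgroup.map_iSup]
  refine iSup_le fun hA => le_jS (hA.of_card ((SfFree.cj_mono (le_jS hA)).trans hh) (SfFree.ea_cj hA.2.1) ?_)
  exact (SfFree.card_cj h A).ge

/-- A subgroup normalised by `F` inside a 2-group lies in `F` if its normalising part does. -/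
theorem le_of_inf_normalizer_le {P : Subgroup G} (hP : IsPGroup 2 P) {F T : Subgroup G} (hF : F ≤ P)
    (hT : T ≤ P) (hFT : F ≤ normalizer (T : Set G)) (h : T ⊓ normalizer (F : Set G) ≤ F) : T ≤ F := by
  have := Fact.mk Nat.prime_two
  by_contra hn
  have hlt : F < T ⊔ F := lt_of_le_of_ne le_sup_right fun e => hn (e ▸ le_sup_left)
  have hgrow := Fusion.lt_inf_normalizer_of_isPGroup (hP.to_le (sup_le hT hF)) hlt
  refine hgrow.not_ge fun z hz => ?_
  obtain ⟨t, ht, f, hf, rfl⟩ := (Coprime.mem_sup_of_le_normalizer hFT).1 (mem_inf.1 hz).1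
  refine mul_mem (h (mem_inf.2 ⟨ht, ?_⟩)) hf
  have := mul_mem (mem_inf.1 hz).2 (inv_mem (le_normalizer hf : f ∈ normalizer (F : Set G)))
  rwa [mul_inv_cancel_right] at this

/-- Frattini inside a subgroup. -/
theorem frattini_in {X C R : Subgroup G} (hR : SylIn 2 R X) (hC : X ≤ normalizer (C : Set G)) {x : G}
    (hx : x ∈ X) : ∃ c ∈ C ⊓ X, ∃ n ∈ X ⊓ normalizer ((R ⊓ C : Subgroup G) : Set G), x = c * n := by
  have := Fact.mk Nat.prime_two
  have hCX : X ≤ normalizer ((C ⊓ X : Subgroup G) : Set G) :=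
    (le_inf hC le_normalizer).trans inf_normalizer_le_normalizer_inf
  have hS := hR.inf_normal inf_le_right hCX
  have e : R ⊓ (C ⊓ X) = R ⊓ C := le_antisymm (inf_le_inf_left R inf_le_left)
    (le_inf inf_le_left (le_inf inf_le_right (inf_le_left.trans hR.le)))
  rw [e] at hS
  obtain ⟨d, hd, hle⟩ := hS.exists_cjSub_le (Control.isPGroup_cjSub (g := x) hS.isPGroup)
    ((map_mono hS.le).trans (Control.cjSub_eq_of_mem (hCX hx)).le)
  rw [Control.cjSub_cjSub] at hle
  refine ⟨d⁻¹, inv_mem hd, d * x, mem_inf.2 ⟨mul_mem (mem_inf.1 hd).2 hx, ?_⟩, (inv_mul_cancel_left d x).symm⟩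
  exact Control.mem_normalizer_of_cjSub_eq (eq_of_le_of_card_ge hle (Control.card_cjSub _ _).ge)

theorem centralizer_pCore_le (S : Sylow 2 G)
    (hT : (S : Subgroup G) ⊓ centralizer (Cfsg.pCore 2 G : Set G) ≤ Cfsg.pCore 2 G) :
    centralizer (Cfsg.pCore 2 G : Set G) ≤ Cfsg.pCore 2 G ⊔ Cfsg.pPrimeCore 2 G := by
  have := Fact.mk Nat.prime_two
  set C := centralizer (Cfsg.pCore 2 G : Set G) with hC
  have : (Cfsg.pCore 2 G).Normal := Core.pCore_normal
  have : C.Normal := inferInstance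
  have hSC : ¬ 2 ∣ ((S : Subgroup G) ⊓ C).relIndex C := by
    rw [inf_relIndex_right]; exact Thompson.not_dvd_relIndex_sylow S C
  set Z := ((S : Subgroup G) ⊓ C).subgroupOf C with hZ
  have hcent : ∀ z ∈ Z, ∀ c : C, c * z = z * c := fun z hz c => Subtype.ext
    ((mem_centralizer_iff.mp c.2 (z : G) (hT (mem_subgroupOf.mp hz))).symm)
  haveI : Z.Normal := ⟨fun z hz c => by rw [hcent z hz c, mul_inv_cancel_right]; exact hz⟩
  have hidx : Z.index.Coprime 2 := (Nat.prime_two.coprime_iff_not_dvd.mpr hSC).symm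
  obtain ⟨a, ha⟩ := IsPGroup.iff_card.mp
    ((S.2.to_inf_left (K := C)).comap_of_injective C.subtype C.subtype_injective)
  obtain ⟨L, hL⟩ := exists_right_complement'_of_coprime (N := Z)
    (by rw [show Nat.card Z = 2 ^ a from ha]; exact hidx.symm.pow_left a)
  haveI : L.Normal := by
    rw [← normalizer_eq_top_iff, eq_top_iff, ← hL.sup_eq_top]
    refine sup_le (fun z hz => mem_normalizer_iff.mpr fun k => ?_) Subgroup.le_normalizer
    rw [← hcent z hz k, mul_inv_cancel_right]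
  have hLO : L ≤ Cfsg.pPrimeCore 2 C := Core.le_pPrimeCore (by rw [← hL.symm.index_eq_card]; exact hidx)
  intro c hc
  have h3 := mem_map_of_mem C.subtype ((sup_le_sup (le_refl Z) hLO) (hL.sup_eq_top ▸ mem_top (⟨c, hc⟩ : C)))
  rw [Subgroup.map_sup] at h3
  refine (sup_le_sup ?_ ?_ : Z.map C.subtype ⊔ _ ≤ Cfsg.pCore 2 G ⊔ Cfsg.pPrimeCore 2 G) h3
  · rw [hZ, map_subgroupOf_eq_of_le inf_le_right]; exact hT
  · exact (Core.map_pPrimeCore_normal C).le.trans inf_le_left

/-- The two factorisations of a constrained group. -/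
theorem cent_fac (h : SecHyp G) (S : Sylow 2 G)
    (hT : (S : Subgroup G) ⊓ centralizer (Cfsg.pCore 2 G : Set G) ≤ Cfsg.pCore 2 G) :
    (∀ x : G, ∃ c ∈ centralizer (((S : Subgroup G) ⊓ centralizer ((S : Subgroup G) : Set G) : Subgroup G) : Set G),
      ∃ n ∈ normalizer (jh (S : Subgroup G) : Set G), x = c * n) ∧
    ∀ x : G, ∃ c ∈ centralizer ((wJ (S : Subgroup G) ⊓ Cfsg.pCore 2 G : Subgroup G) : Set G),
      ∃ n ∈ normalizer (jS (S : Subgroup G) : Set G), x = c * n := by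
  have := Fact.mk Nat.prime_two
  set Q := Cfsg.pCore 2 G with hQdef
  have hQn : Q.Normal := Core.pCore_normal
  set O := Cfsg.pPrimeCore 2 G with hOdef
  have hOn : O.Normal := Core.pPrimeCore_normal
  have hdisj : ∀ {z : G} {U : Subgroup G}, IsPGroup 2 U → z ∈ U → z ∈ O → z = 1 := by
    intro z U hU hz hzO
    have hb : U ⊓ O = ⊥ := Layer.inf_eq_bot_of_isPGroup hU Core.coprime_card_pPrimeCore
    exact mem_bot.1 (hb ▸ mem_inf.2 ⟨hz, hzO⟩)
  let π := QuotientGroup.mk' O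
  have hπ := QuotientGroup.mk'_surjective O
  have hcent : ∀ U : Subgroup G, U ≤ Q → ∀ c : G, π c ∈ centralizer (U.map π : Set (G ⧸ O)) →
      c ∈ centralizer (U : Set G) := by
    intro U hU c hc
    refine mem_centralizer_iff.2 fun u hu => ?_
    have h1 : c * u * c⁻¹ * u⁻¹ ∈ O := commute_mk_iff.1 (mem_centralizer_iff.1 hc _ (mem_map_of_mem π hu)).symm
    have h2 : c * u * c⁻¹ * u⁻¹ ∈ Q := mul_mem (hQn.conj_mem u (hU hu) c) (inv_mem (hU hu))
    have h3 := hdisj Core.pCore_isPGroup h2 h1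
    exact (mul_inv_eq_iff_eq_mul.1 (mul_inv_eq_one.1 h3)).symm
  have hnorm : ∀ U : Subgroup G, IsPGroup 2 U → ∀ c : G, π c ∈ normalizer (U.map π : Set (G ⧸ O)) →
      ∃ n ∈ normalizer (U : Set G), π n = π c := by
    intro U hU c hc
    have hsyl : SylIn 2 U (U ⊔ O) := by
      refine ⟨le_sup_left, hU, fun hd => ?_⟩
      have h1 := Coprime.card_mul_relIndex_of_le (le_sup_left : U ≤ U ⊔ O)
      have h2 : Nat.card (O ⊔ U : Subgroup G) * Nat.card (O ⊓ U : Subgroup G) = Nat.card O * Nat.card U :=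
        SfFree.card_sup_mul (by rw [normalizer_eq_top_iff.2 hOn]; exact le_top)
      rw [sup_comm, inf_comm, show U ⊓ O = ⊥ from Layer.inf_eq_bot_of_isPGroup hU Core.coprime_card_pPrimeCore,
        card_bot, mul_one, ← h1, mul_comm] at h2
      rw [Nat.eq_of_mul_eq_mul_right Nat.card_pos h2] at hd
      exact (Nat.prime_two.coprime_iff_not_dvd.1 Core.coprime_card_pPrimeCore.symm) hd
    obtain ⟨d, hd, hle⟩ := hsyl.exists_cjSub_le (Control.isPGroup_cjSub (g := c) hU) (by
      rintro _ ⟨u, hu, rfl⟩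
      obtain ⟨v, hv, e⟩ := (mem_normalizer_iff.1 hc (π u)).1 (mem_map_of_mem π hu)
      refine mem_sup_of_normal_right.2 ⟨v, hv, v⁻¹ * (c * u * c⁻¹), ?_, mul_inv_cancel_left v _⟩
      refine (QuotientGroup.eq_one_iff _).1 (show π (v⁻¹ * (c * u * c⁻¹)) = 1 from ?_)
      rw [map_mul, map_inv, map_mul, map_mul, map_inv, e, inv_mul_cancel])
    obtain ⟨u, hu, o, ho, rfl⟩ := mem_sup_of_normal_right.1 hd
    rw [Control.cjSub_cjSub] at hle
    have hn := Control.mem_normalizer_of_cjSub_eq (eq_of_le_of_card_ge hle (Control.card_cjSub _ _).ge)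
    refine ⟨o * c, ?_, ?_⟩
    · have := mul_mem (inv_mem (le_normalizer hu : u ∈ normalizer (U : Set G))) hn
      rwa [mul_assoc u o c, inv_mul_cancel_left] at this
    · rw [map_mul, show π o = 1 from (QuotientGroup.eq_one_iff o).2 ho, one_mul]
  -- the quotient
  have hchar : centralizer (Cfsg.pCore 2 (G ⧸ O) : Set (G ⧸ O)) ≤ Cfsg.pCore 2 (G ⧸ O) := by
    intro z hz
    obtain ⟨x, rfl⟩ := hπ z
    have hx : x ∈ centralizer (Q : Set G) :=
      hcent Q le_rfl x (centralizer_le (Core.map_pCore_le_of_surjective hπ) hz)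
    obtain ⟨q, hq, o, ho, rfl⟩ := mem_sup_of_normal_right.1 (centralizer_pCore_le S hT hx)
    rw [map_mul, show π o = 1 from (QuotientGroup.eq_one_iff o).2 ho, mul_one]
    exact Core.map_pCore_le_of_surjective hπ (mem_map_of_mem π hq)
  have hH : Hyp (G ⧸ O) := (h.of_surjective π hπ).hyp hchar
  let Sb := S.mapSurjective hπ
  let ι := π.comp (S : Subgroup G).subtype
  have hι : Function.Injective ι := (injective_iff_map_eq_one ι).2 fun s hs =>
    Subtype.ext (hdisj S.2 s.2 ((QuotientGroup.eq_one_iff (s : G)).1 hs))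
  have eS : (⊤ : Subgroup (S : Subgroup G)).map (S : Subgroup G).subtype = (S : Subgroup G) := by
    rw [← MonoidHom.range_eq_map, range_subtype]
  have hiS := (S : Subgroup G).subtype_injective
  have eSb : (Sb : Subgroup (G ⧸ O)) = (⊤ : Subgroup (S : Subgroup G)).map ι := by
    rw [← map_map, eS]; rfl
  have ej : jh (Sb : Subgroup (G ⧸ O)) = (jh (S : Subgroup G)).map π := by
    rw [eSb, jh_map hι]
    conv_rhs => rw [← eS, jh_map hiS, map_map]
  have eJ : jS (Sb : Subgroup (G ⧸ O)) = (jS (S : Subgroup G)).map π := by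
    rw [eSb, SfFree.jS_map hι]
    conv_rhs => rw [← eS, SfFree.jS_map hiS, map_map]
  have eW : wJ (Sb : Subgroup (G ⧸ O)) = (wJ (S : Subgroup G)).map π := by
    rw [eSb, wJ_map hι]
    conv_rhs => rw [← eS, wJ_map hiS, map_map]
  have eZ : (Sb : Subgroup (G ⧸ O)) ⊓ centralizer ((Sb : Subgroup (G ⧸ O)) : Set (G ⧸ O)) =
      ((S : Subgroup G) ⊓ centralizer ((S : Subgroup G) : Set G)).map π := by
    rw [eSb, ← SfFree.map_inf_centralizer hι]
    conv_rhs => rw [← eS, ← SfFree.map_inf_centralizer hiS, map_map]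
  have hZQ : (S : Subgroup G) ⊓ centralizer ((S : Subgroup G) : Set G) ≤ Q :=
    le_trans (inf_le_inf_left _ (centralizer_le (Core.pCore_le_sylow S))) hT
  constructor <;> intro x
  · obtain ⟨c, hc, n, hn, e⟩ := (parts12 hH Sb).2 (π x)
    rw [eZ] at hc
    rw [ej] at hn
    obtain ⟨m, rfl⟩ := hπ n
    obtain ⟨n', hn', e'⟩ := hnorm _ (S.2.to_le (jh_le _)) m hn
    refine ⟨x * n'⁻¹, hcent _ hZQ _ ?_, n', hn', (inv_mul_cancel_right x n').symm⟩
    rwa [map_mul, map_inv, e', e, mul_inv_cancel_right]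
  · obtain ⟨c, hc, n, hn, e⟩ := p3 hH Sb (π x)
    rw [eW] at hc
    rw [eJ] at hn
    obtain ⟨m, rfl⟩ := hπ n
    obtain ⟨n', hn', e'⟩ := hnorm _ (S.2.to_le (jS_le _)) m hn
    refine ⟨x * n'⁻¹, hcent _ inf_le_right _ ?_, n', hn', (inv_mul_cancel_right x n').symm⟩
    have := centralizer_le (map_mono (inf_le_left : wJ (S : Subgroup G) ⊓ Q ≤ _) (f := π)) hc
    rwa [map_mul, map_inv, e', e, mul_inv_cancel_right]

end Cfsg.Agent.S4Comp
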