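import Cfsg.Agent.S4Comp.Action

/-!
# Frattini factorisations and the first two parts
-/

set_option autoImplicit false

namespace Cfsg.Agent.S4Comp

open Subgroup
open Cfsg.Agent.SfFree (Mem jS le_jS cj ea_commute ea_sq)
open Cfsg.Agent.S3Free (CompK)
open scoped commutatorElement

universe u

variable {G : Type u} [Group G]

/-- `Ω₁(Z(Ĵ))`. -/
def wJ (S : Subgroup G) : Subgroup G :=
  Cfsg.omegaOne 2 (jh S ⊓ centralizer (jh S : Set G))

theorem wJ_map {N : Type u} [Group N] {ι : N →* G} (hι : Function.Injective ι) (S : Subgroup N) :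
    wJ (S.map ι) = (wJ S).map ι := by
  rw [wJ, wJ, jh_map hι, ← SfFree.map_inf_centralizer hι, Thompson.omegaOne_map_of_injective hι]

theorem wJ_le_jh (S : Subgroup G) : wJ S ≤ jh S := (Thompson.omegaOne_le 2 _).trans inf_le_left

theorem jh_le_centralizer_wJ (S : Subgroup G) : jh S ≤ centralizer (wJ S : Set G) :=
  le_centralizer_iff.1 ((Thompson.omegaOne_le 2 _).trans inf_le_right)

theorem wJ_ea (S : Subgroup G) : Cfsg.IsElementaryAbelian 2 (wJ S) :=
  Thompson.omegaOne_ea ((inf_le_right).trans (centralizer_le inf_le_left))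

/-- The third factorisation. -/
def P3 (S : Subgroup G) : Prop :=
  ∀ g : G, ∃ c ∈ centralizer (wJ S : Set G), ∃ j ∈ normalizer (jS S : Set G), g = c * j

variable [Finite G]

theorem frattini (S : Sylow 2 G) (C : Subgroup G) [C.Normal] (g : G) :
    ∃ c ∈ C, ∃ n ∈ normalizer (((S : Subgroup G) ⊓ C : Subgroup G) : Set G), g = c * n := by
  have := Fact.mk Nat.prime_two
  obtain ⟨P, hP⟩ := Invol.exists_sylow_eq_inf S C
  have htop : normalizer (((S : Subgroup G) ⊓ C : Subgroup G) : Set G) ⊔ C = ⊤ := by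
    have := Sylow.normalizer_sup_eq_top (N := C) P
    rwa [hP, map_subgroupOf_eq_of_le inf_le_right] at this
  rw [sup_comm] at htop
  obtain ⟨c, hc, n, hn, e⟩ := mem_sup_of_normal_left.1 (htop.ge (mem_top g))
  exact ⟨c, hc, n, hn, e.symm⟩

theorem normalizer_inf_le_normalizer_jS (S : Sylow 2 G) {C : Subgroup G} (hJ : jS (S : Subgroup G) ≤ C) :
    normalizer (((S : Subgroup G) ⊓ C : Subgroup G) : Set G) ≤ normalizer (jS (S : Subgroup G) : Set G) := by
  rw [← jS_eq_of_le (inf_le_left : (S : Subgroup G) ⊓ C ≤ S) (le_inf (SfFree.jS_le _) hJ)]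
  exact le_normalizer_jS_of

theorem normalizer_inf_le_normalizer_jh (S : Sylow 2 G) {C : Subgroup G} (hJ : jh (S : Subgroup G) ≤ C) :
    normalizer (((S : Subgroup G) ⊓ C : Subgroup G) : Set G) ≤ normalizer (jh (S : Subgroup G) : Set G) := by
  rw [← jh_eq_of_le (inf_le_left : (S : Subgroup G) ⊓ C ≤ S) (le_inf (jh_le _) hJ)]
  exact fun _ h => mem_normalizer_jh h

/-- The third factorisation read in the ambient group. -/
theorem p3_lift {M T : Subgroup G} (hTM : T ≤ M) (h : P3 (T.subgroupOf M)) :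
    ∀ m ∈ M, ∃ c ∈ centralizer (wJ T : Set G), ∃ j ∈ normalizer (jS T : Set G), m = c * j := by
  intro m hm
  obtain ⟨c, hc, j, hj, e⟩ := h ⟨m, hm⟩
  have hT := map_subgroupOf_eq_of_le hTM
  refine ⟨c, ?_, j, ?_, congrArg Subtype.val e⟩
  · rw [← hT, wJ_map M.subtype_injective]
    exact map_centralizer_le M.subtype hc
  · rw [← hT, SfFree.jS_map M.subtype_injective]
    exact le_normalizer_map M.subtype ⟨j, hj, rfl⟩

/-- An abelian 2-group: odd elements are detected on involutions. -/
theorem sq_le_centralizer {V : Subgroup G} [hc : IsMulCommutative V] (hV : IsPGroup 2 V) {x : G}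
    (hx : x ∈ normalizer (V : Set G)) (hxo : Odd (orderOf x))
    (hfix : x ∈ centralizer (Cfsg.omegaOne 2 V : Set G)) : x ∈ centralizer (V : Set G) := by
  have := Fact.mk Nat.prime_two
  refine Coprime.le_centralizer_of_fixes_prime_order (A := zpowers x) (zpowers_le.2 hx) ?_ ?_ (mem_zpowers x)
  · obtain ⟨n, hn⟩ := IsPGroup.iff_card.1 hV
    rw [hn, Nat.card_zpowers]
    exact (Nat.coprime_two_right.2 hxo).pow_right n
  · intro v hv hvp a ha
    obtain ⟨i, hi⟩ := IsPGroup.iff_orderOf.1 hV ⟨v, hv⟩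
    rw [Subgroup.orderOf_mk] at hi
    have h2 : orderOf v = 2 := by
      rw [hi] at hvp ⊢
      rw [hvp.eq_one_of_pow, pow_one]
    have hvO : v ∈ Cfsg.omegaOne 2 V := Thompson.mem_omegaOne hv (h2 ▸ pow_orderOf_eq_one v)
    obtain ⟨k, rfl⟩ := mem_zpowers_iff.1 ha
    exact ((show Commute x v from (mem_centralizer_iff.1 hfix v hvO).symm).zpow_left k).eq

/-- The first two factorisations. -/
theorem parts12 (h : Hyp G) (S : Sylow 2 G) :
    (∀ g : G, ∃ c ∈ centralizer (((S : Subgroup G) ⊓ centralizer ((S : Subgroup G) : Set G) : Subgroup G) : Set G),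
      ∃ n ∈ normalizer (jS (S : Subgroup G) : Set G), g = c * n) ∧
    (∀ g : G, ∃ c ∈ centralizer (((S : Subgroup G) ⊓ centralizer ((S : Subgroup G) : Set G) : Subgroup G) : Set G),
      ∃ n ∈ normalizer (jh (S : Subgroup G) : Set G), g = c * n) := by
  have := Fact.mk Nat.prime_two
  set Q := Cfsg.pCore 2 G
  have hQn : Q.Normal := Core.pCore_normal
  set Z := (S : Subgroup G) ⊓ centralizer ((S : Subgroup G) : Set G)
  set ZQ := Q ⊓ centralizer (Q : Set G)
  have hQS : Q ≤ S := Core.pCore_le_sylow S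
  have hZQ : Z ≤ ZQ := fun z hz => ⟨h.char2 (centralizer_le hQS hz.2), centralizer_le hQS hz.2⟩
  have hcn : (centralizer (Q : Set G)).Normal := inferInstance
  have hZQn : ZQ.Normal := inferInstance
  set V := normalClosure (Z : Set G)
  have hVZ : V ≤ ZQ := normalClosure_le_normal hZQ
  have hVc : IsMulCommutative V := le_centralizer_iff_isMulCommutative.1
    ((hVZ.trans inf_le_right).trans (centralizer_le (hVZ.trans inf_le_left)))
  have hVp : IsPGroup 2 V := Core.pCore_isPGroup.to_le (hVZ.trans inf_le_left)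
  set M := Cfsg.omegaOne 2 V
  have hMn : M.Normal := by
    refine normalizer_eq_top_iff.1 (eq_top_iff.2 fun g _ => mem_normalizer_iff_map_conj_eq.2 ?_)
    have e := Thompson.omegaOne_map_of_injective (f := (MulAut.conj g).toMonoidHom) (p := 2) (MulAut.conj g).injective V
    rw [show V.map (MulAut.conj g).toMonoidHom = V from mem_normalizer_iff_map_conj_eq.1
      (by rw [normalizer_eq_top_iff.2 normalClosure_normal]; exact mem_top g)] at e
    exact e
  have hMe : Cfsg.IsElementaryAbelian 2 M :=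
    Thompson.omegaOne_ea (le_centralizer_iff_isMulCommutative.2 hVc)
  -- the centralizer of the involutions is that of `V`
  set C := centralizer (M : Set G)
  have hSZ : (S : Subgroup G) ≤ centralizer (Z : Set G) := le_centralizer_iff.1 inf_le_right
  have hpre : ∀ D : Subgroup G, D.Normal → C ≤ D → IsPGroup 2 (D.map (QuotientGroup.mk' C)) →
      D ≤ centralizer (V : Set G) := by
    intro D hD hCD hD2
    have hcV : (centralizer (V : Set G)).Normal := inferInstance
    have hcV' : centralizer (V : Set G) ≤ C := centralizer_le (Thompson.omegaOne_le 2 V)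
    have htwo : IsPGroup 2 (D.map (QuotientGroup.mk' (centralizer (V : Set G)))) := by
      rintro ⟨_, d, hd, rfl⟩
      obtain ⟨k, hk⟩ := hD2 ⟨_, mem_map_of_mem _ hd⟩
      have hk' : d ^ 2 ^ k ∈ C := (QuotientGroup.eq_one_iff _).1 (by
        have := congrArg Subtype.val hk
        simpa using this)
      obtain ⟨s, m, hm, he⟩ := Nat.exists_eq_pow_mul_and_not_dvd (orderOf_pos (d ^ 2 ^ k)).ne' 2 (by norm_num)
      have hy : (d ^ 2 ^ k) ^ 2 ^ s ∈ centralizer (V : Set G) := by
        refine sq_le_centralizer hVp ?_ ?_ (pow_mem hk' _)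
        · rw [normalizer_eq_top_iff.2 normalClosure_normal]; exact mem_top _
        · rw [orderOf_pow_of_dvd (by positivity) ⟨m, he⟩, he, Nat.mul_div_cancel_left _ (by positivity)]
          exact Nat.odd_iff.2 (by omega)
      refine ⟨k + s, Subtype.ext ?_⟩
      show (QuotientGroup.mk' _ d) ^ 2 ^ (k + s) = 1
      rw [← map_pow, pow_add, pow_mul]
      exact (QuotientGroup.eq_one_iff _).2 hy
    -- a Sylow subgroup covers
    obtain ⟨P, hP⟩ := Invol.exists_sylow_eq_inf S D
    let π := (QuotientGroup.mk' (centralizer (V : Set G))).subgroupMap D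
    have hπ := (QuotientGroup.mk' (centralizer (V : Set G))).subgroupMap_surjective D
    have htop : (P : Subgroup D).map π = ⊤ :=
      ((P.mapSurjective hπ).3 (htwo.to_subgroup ⊤) le_top).symm.trans rfl
    have hDle : D ≤ centralizer (Z : Set G) := by
      intro d hd
      obtain ⟨p, hp, hpd⟩ := htop.ge (mem_top (π ⟨d, hd⟩))
      have hpS : (p : G) ∈ (S : Subgroup G) := by rw [hP] at hp; exact (mem_subgroupOf.1 hp).1
      have hc : d * (p : G)⁻¹ ∈ centralizer (V : Set G) := (QuotientGroup.eq_one_iff _).1 (by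
        have h' : QuotientGroup.mk' (centralizer (V : Set G)) (p : G) = QuotientGroup.mk' _ d :=
          congrArg Subtype.val hpd
        show QuotientGroup.mk' _ (d * (p : G)⁻¹) = 1
        rw [map_mul, map_inv, h', mul_inv_cancel])
      have := mul_mem (centralizer_le subset_normalClosure hc) (hSZ hpS)
      rwa [inv_mul_cancel_right] at this
    refine le_centralizer_iff.1 (normalClosure_le_normal ?_)
    exact le_centralizer_iff.1 hDle
  have hCV : C ≤ centralizer (V : Set G) := hpre C inferInstance le_rfl (by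
    rw [QuotientGroup.map_mk'_self]; exact IsPGroup.of_bot)
  have hO : Cfsg.pCore 2 (G ⧸ C) = ⊥ := by
    have hn : (Cfsg.pCore 2 (G ⧸ C)).Normal := Core.pCore_normal
    set D := (Cfsg.pCore 2 (G ⧸ C)).comap (QuotientGroup.mk' C)
    have hDmap : D.map (QuotientGroup.mk' C) = Cfsg.pCore 2 (G ⧸ C) :=
      map_comap_eq_self_of_surjective (QuotientGroup.mk'_surjective C) _
    have hle := hpre D inferInstance (by
      intro c hc
      show QuotientGroup.mk' C c ∈ Cfsg.pCore 2 (G ⧸ C)
      rw [show QuotientGroup.mk' C c = 1 from (QuotientGroup.eq_one_iff c).2 hc]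
      exact one_mem _) (hDmap ▸ Core.pCore_isPGroup)
    rw [← hDmap, eq_bot_iff]
    rintro _ ⟨d, hd, rfl⟩
    exact mem_bot.2 ((QuotientGroup.eq_one_iff d).2 (centralizer_le (Thompson.omegaOne_le 2 V) (hle hd)))
  have hjC : jh (S : Subgroup G) ≤ C := reduced h S hMe hO
  have hCZ : C ≤ centralizer (Z : Set G) := hCV.trans (centralizer_le subset_normalClosure)
  constructor <;> intro g <;> obtain ⟨c, hc, n, hn, e⟩ := frattini S C g
  · exact ⟨c, hCZ hc, n, normalizer_inf_le_normalizer_jS S ((jS_le_jh _).trans hjC) hn, e⟩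
  · exact ⟨c, hCZ hc, n, normalizer_inf_le_normalizer_jh S hjC hn, e⟩

end Cfsg.Agent.S4Comp
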