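import Cfsg.Agent.S3Free.Comp
import Cfsg.Agent.S3Free.PSL
import Cfsg.Agent.Invol.SylowNormal
import Cfsg.Agent.Suzuki.Solubilizer
import Cfsg.Agent.Suzuki.Basic
import Cfsg.Agent.Suzuki.Sylow

/-!
# Sylow 2-normalisers are solvable; the composition hypothesis along extensions
-/

set_option autoImplicit false

namespace Cfsg.Agent.S4Comp

open Subgroup
open Cfsg.Agent.S3Free (CompK)

universe u

theorem solvable_of_le {G : Type*} [Group G] {A B : Subgroup G} (hB : Group.IsSolvable B) (h : A ≤ B) :
    Group.IsSolvable A :=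
  Group.isSolvable_of_isSolvable_injective (f := inclusion h) (inclusion_injective h)

/-- All normalisers of Sylow 2-subgroups are solvable. -/
def SolvNorm (G : Type*) [Group G] : Prop :=
  ∀ P : Sylow 2 G, Group.IsSolvable (normalizer ((P : Subgroup G) : Set G))

theorem SolvNorm.of_equiv {X Y : Type*} [Group X] [Group Y] [Finite X] [Finite Y] (e : X ≃* Y)
    (h : SolvNorm Y) : SolvNorm X := by
  intro P
  have := h (Sylow.mapSurjective (f := e.toMonoidHom) (fun y => e.surjective y) P)
  have hle : (normalizer ((P : Subgroup X) : Set X)).map e.toMonoidHom ≤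
      normalizer (((P : Subgroup X).map e.toMonoidHom : Subgroup Y) : Set Y) := le_normalizer_map _
  have h2 := solvable_of_le this hle
  let e' := (normalizer ((P : Subgroup X) : Set X)).equivMapOfInjective e.toMonoidHom e.injective
  exact Group.isSolvable_of_isSolvable_injective (f := e'.toMonoidHom) e'.injective

theorem solvNorm_sz {F : Type u} [Field F] [Fintype F] {m : ℕ} (hm : 1 ≤ m)
    (hF : Fintype.card F = 2 ^ (2 * m + 1)) : SolvNorm (Cfsg.Sz F m) := by
  have h2 := Fact.mk Nat.prime_two
  have hG := RankOne.Ovoid.good_of_card (m := m) hF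
  have hU : Group.IsSolvable (Suzuki.U hG) := by
    have := (Suzuki.U_isPGroup hG hF).isNilpotent
    infer_instance
  have hN : Group.IsSolvable (normalizer (Suzuki.U hG : Set (Cfsg.Sz F m))) := by
    refine Suzuki.solvable_of_comm_le _ _ hU fun x hx y hy => ?_
    rw [Suzuki.normalizer_U hG hm hF] at hx hy
    obtain ⟨a, b, c, rfl⟩ := Suzuki.eq_T_mul_H hG hm hF hx
    obtain ⟨a', b', c', rfl⟩ := Suzuki.eq_T_mul_H hG hm hF hy
    set t := Suzuki.T hG a b
    set t' := Suzuki.T hG a' b'
    set h := Suzuki.H hG c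
    set h' := Suzuki.H hG c'
    have hc : h' * h⁻¹ = h⁻¹ * h' := by
      rw [← map_inv, ← map_mul, ← map_mul, mul_comm]
    have e : t * h * (t' * h') * (t * h)⁻¹ * (t' * h')⁻¹ =
        t * (h * t' * h⁻¹) * (h' * t⁻¹ * h'⁻¹) * t'⁻¹ := by
      calc _ = t * h * t' * (h' * h⁻¹) * t⁻¹ * h'⁻¹ * t'⁻¹ := by group
        _ = _ := by rw [hc]; group
    rw [e]
    have ht : t ∈ Suzuki.U hG := Suzuki.T_mem hG a b
    have ht' : t' ∈ Suzuki.U hG := Suzuki.T_mem hG a' b'
    exact mul_mem (mul_mem (mul_mem ht
      (Suzuki.conj_mem_U hG hm hF (Suzuki.H_pI hG c) ht'))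
      (Suzuki.conj_mem_U hG hm hF (Suzuki.H_pI hG c') (inv_mem ht))) (inv_mem ht')
  intro P
  obtain ⟨g, hg⟩ := MulAction.exists_smul_eq (Cfsg.Sz F m) P (Suzuki.sylowU hG hm hF)
  have hle : (normalizer ((P : Subgroup (Cfsg.Sz F m)) : Set (Cfsg.Sz F m))).map
      (MulAut.conj g).toMonoidHom ≤ normalizer (Suzuki.U hG : Set (Cfsg.Sz F m)) := by
    rw [← Suzuki.coe_sylowU hG hm hF, ← hg, Sylow.coe_subgroup_smul]
    exact le_normalizer_map _
  have := solvable_of_le hN hle
  let e' := (normalizer ((P : Subgroup (Cfsg.Sz F m)) : Set (Cfsg.Sz F m))).equivMapOfInjective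
    (MulAut.conj g).toMonoidHom (MulAut.conj g).injective
  exact Group.isSolvable_of_isSolvable_injective (f := e'.toMonoidHom) e'.injective

theorem solvNorm_psl {F : Type u} [Field F] [Fintype F] (hq : Fintype.card F % 8 = 3) :
    SolvNorm (Matrix.ProjectiveSpecialLinearGroup (Fin 2) F) := by
  intro P
  have := Fact.mk Nat.prime_two
  have h2 := Classical.two_ne_zero_of_odd (F := F) (Nat.odd_iff.2 (by omega))
  have hV := Classical.sylow_two_psl2 rfl (Or.inl hq) P
  set V : Subgroup (Matrix.ProjectiveSpecialLinearGroup (Fin 2) F) := ↑P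
  set N := normalizer (V : Set (Matrix.ProjectiveSpecialLinearGroup (Fin 2) F))
  have h12 := Classical.PKlein.normalizer_twelve h2 rfl (Or.inl hq) V
  have hVn : (V.subgroupOf N).Normal := normal_subgroupOf_of_le_normalizer le_rfl
  have hV4 : Nat.card (V.subgroupOf N) = 4 :=
    (Nat.card_congr (subgroupOfEquivOfLe le_normalizer).toEquiv).trans hV.card_four
  have h3 : Nat.card (N ⧸ V.subgroupOf N) = 3 := by
    have h := card_eq_card_quotient_mul_card_subgroup (V.subgroupOf N)
    rw [hV4, show Nat.card N = 12 from h12] at h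
    omega
  have := Fact.mk Nat.prime_three
  have hc : IsCyclic (N ⧸ V.subgroupOf N) := isCyclic_of_prime_card h3
  refine (Group.isSolvable_iff_subgroup_quotient (V.subgroupOf N)).2 ⟨?_,
    Group.isSolvable_of_comm fun a b => ?_⟩
  · have := (IsPGroup.of_card (p := 2) (n := 2) hV4).isNilpotent
    infer_instance
  · let _ := IsCyclic.commGroup (α := N ⧸ V.subgroupOf N)
    exact mul_comm a b

theorem solvNorm_of_k2 {X : Type u} [Group X] [Finite X] (h : Cfsg.IsSuzukiOrPSL2OddPowerThree X) : SolvNorm X := by
  rcases h with ⟨F, i1, i2, m, hm, hF, ⟨e⟩⟩ | ⟨F, i1, i2, n, hF, ⟨e⟩⟩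
  · obtain ⟨e₁⟩ := Suzuki.nonempty_equiv (F := F) hm hF
    exact (solvNorm_sz hm hF).of_equiv (e.trans e₁.symm)
  · refine (solvNorm_psl ?_).of_equiv e
    rw [hF]
    clear hF e
    induction n with
    | zero => rfl
    | succ n ih =>
      rw [show 2 * (n + 1) + 1 = (2 * n + 1) + 2 by ring, pow_add, Nat.mul_mod, ih]
      norm_num

theorem solvNorm_aux (n : ℕ) : ∀ (G : Type u) [Group G] [Finite G], Nat.card G = n → CompK G → SolvNorm G := by
  induction n using Nat.strong_induction_on with
  | _ n ih =>
  intro G _ _ hn hc P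
  have h2 := Fact.mk Nat.prime_two
  rcases subsingleton_or_nontrivial G with hsub | hnt
  · exact Group.isSolvable_of_comm fun a b => Subsingleton.elim _ _
  by_cases hs : IsSimpleGroup G
  · by_cases hcm : IsMulCommutative G
    · exact Group.isSolvable_of_comm fun a b => Subtype.ext (hcm.is_comm.comm _ _)
    · exact solvNorm_of_k2 (hc.of_section IsSubnormal.top (⊤ : Subgroup G).subtype
        (fun x => ⟨⟨x, mem_top x⟩, rfl⟩) hs hcm) P
  obtain ⟨N, hN, hN1, hN2⟩ : ∃ N : Subgroup G, N.Normal ∧ N ≠ ⊥ ∧ N ≠ ⊤ := by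
    by_contra hno
    push Not at hno
    exact hs ⟨fun N hN => by by_cases h : N = ⊥; exacts [Or.inl h, Or.inr (hno N hN h)]⟩
  set M := normalizer ((P : Subgroup G) : Set G)
  let π := (QuotientGroup.mk' N).comp M.subtype
  have hπ := QuotientGroup.mk'_surjective N
  -- the image
  have hq := ih (Nat.card (G ⧸ N)) (hn ▸ Core.card_quotient_lt hN1) (G ⧸ N) rfl
    (hc.of_surjective _ hπ) (P.mapSurjective hπ)
  have hr : Group.IsSolvable π.range := solvable_of_le hq (by
    rw [MonoidHom.range_comp, range_subtype]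
    exact le_normalizer_map _)
  -- the kernel
  obtain ⟨Q, hQ⟩ := Invol.exists_sylow_eq_inf P N
  have hn' := ih (Nat.card N) (hn ▸ Core.card_lt_of_ne_top hN2) N rfl
    (hc.of_subnormal hN.isSubnormal) Q
  have hker : Group.IsSolvable π.ker := by
    let f : π.ker →* N :=
      { toFun := fun z => ⟨((z : M) : G), (QuotientGroup.eq_one_iff _).1 z.2⟩
        map_one' := rfl
        map_mul' := fun _ _ => rfl }
    have hf : Function.Injective f := fun z w h =>
      Subtype.ext (Subtype.ext (congrArg Subtype.val h :))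
    have hle : f.range ≤ normalizer ((Q : Subgroup N) : Set N) := by
      rintro _ ⟨z, rfl⟩
      rw [hQ, mem_normalizer_iff]
      intro y
      have h1 := mem_normalizer_iff.1 (z : M).2 (y : G)
      simp only [mem_subgroupOf, mem_inf, SetLike.coe_mem, and_true]
      exact h1
    have h1 := solvable_of_le hn' hle
    exact Group.isSolvable_of_isSolvable_injective (f := f.rangeRestrict)
      ((MonoidHom.rangeRestrict_injective_iff).2 hf)
  exact Group.isSolvable_of_ker_le_range π.ker.subtype π.rangeRestrict (by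
    rw [MonoidHom.ker_rangeRestrict, range_subtype])

/-- Sylow 2-normalisers are solvable. -/
theorem solvable_normalizer_sylow {G : Type u} [Group G] [Finite G] (hc : CompK G) (P : Sylow 2 G) :
    Group.IsSolvable (normalizer ((P : Subgroup G) : Set G)) :=
  solvNorm_aux (Nat.card G) G rfl hc P

theorem compK_of_solvable {G : Type u} [Group G] [Group.IsSolvable G] : CompK G := by
  intro M _ K _ hs hn
  exact absurd (Group.isSolvable_of_surjective (QuotientGroup.mk'_surjective K)) fun h =>
    hn ⟨⟨IsSimpleGroup.comm_iff_isSolvable.2 h⟩⟩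

/-- The hypothesis passes to extensions. -/
theorem compK_of_extension {G : Type u} [Group G] {N : Subgroup G} [hN : N.Normal] (h1 : CompK N)
    (h2 : CompK (G ⧸ N)) : CompK G := by
  intro M hM K hK hs hn
  let f : M →* M ⧸ K := QuotientGroup.mk' K
  set M₀ := N.subgroupOf M
  rcases hs.eq_bot_or_eq_top_of_normal (M₀.map f)
    (Subgroup.Normal.map inferInstance f (QuotientGroup.mk'_surjective K)) with h | h
  · -- a section of the quotient
    let π := (QuotientGroup.mk' N).subgroupMap M
    have hker : π.ker ≤ f.ker := fun z hz => by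
      have : (z : G) ∈ N := (QuotientGroup.eq_one_iff _).1 (congrArg Subtype.val hz :)
      exact mem_bot.1 (h ▸ mem_map_of_mem f (show z ∈ M₀ from this))
    have hπ := (QuotientGroup.mk' N).subgroupMap_surjective M
    refine h2.of_section hM.quotient (π.liftOfSurjective hπ ⟨f, hker⟩) ?_ hs hn
    intro y
    obtain ⟨z, rfl⟩ := QuotientGroup.mk'_surjective K y
    exact ⟨π z, MonoidHom.liftOfRightInverse_comp_apply π _ _ ⟨f, hker⟩ z⟩
  · -- a section of the subgroup
    refine h1.of_section (M := M.subgroupOf N) hM.subgroupOf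
      (f.comp (MonoidHom.mk' (fun z => (⟨((z : N) : G), z.2⟩ : M)) fun _ _ => rfl)) ?_ hs hn
    intro y
    obtain ⟨z, hz, rfl⟩ := h.ge (mem_top y)
    exact ⟨⟨⟨(z : G), hz⟩, z.2⟩, rfl⟩

/-- A subgroup above a normal subgroup with solvable quotient. -/
theorem compK_of_le {G : Type u} [Group G] (hc : CompK G) {C M : Subgroup G} [hC : C.Normal]
    (hCM : C ≤ M) (hs : Group.IsSolvable (M.map (QuotientGroup.mk' C))) : CompK M := by
  let π := (QuotientGroup.mk' C).comp M.subtype
  have hker : π.ker = C.subgroupOf M := by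
    rw [← MonoidHom.comap_ker, QuotientGroup.ker_mk']; rfl
  refine @compK_of_extension M _ (C.subgroupOf M) _ ?_ ?_
  · let e := subgroupOfEquivOfLe hCM
    exact (hc.of_subnormal hC.isSubnormal).of_surjective e.symm.toMonoidHom e.symm.surjective
  · have hs' : Group.IsSolvable π.range := by rwa [MonoidHom.range_comp, range_subtype]
    have : CompK π.range := compK_of_solvable
    let e := (QuotientGroup.quotientMulEquivOfEq hker).symm.trans (QuotientGroup.quotientKerEquivRange π)
    exact this.of_surjective e.symm.toMonoidHom e.symm.surjective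

variable {G : Type u} [Group G] [Finite G]

/-- The normaliser of a Sylow 2-subgroup of a normal subgroup. -/
theorem compK_frattini (hc : CompK G) (S : Sylow 2 G) (C : Subgroup G) [hC : C.Normal] :
    CompK (normalizer (((S : Subgroup G) ⊓ C : Subgroup G) : Set G)) := by
  have h2 := Fact.mk Nat.prime_two
  set N := normalizer (((S : Subgroup G) ⊓ C : Subgroup G) : Set G)
  obtain ⟨P, hP⟩ := Invol.exists_sylow_eq_inf S C
  have hs := solvable_normalizer_sylow (hc.of_subnormal hC.isSubnormal) P
  refine @compK_of_extension N _ (C.subgroupOf N) _ ?_ ?_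
  · let f : C.subgroupOf N →* C := MonoidHom.mk' (fun z => ⟨((z : N) : G), z.2⟩) fun _ _ => rfl
    have hf : Function.Injective f := fun z w h =>
      Subtype.ext (Subtype.ext (congrArg Subtype.val h :))
    have hle : f.range ≤ normalizer ((P : Subgroup C) : Set C) := by
      rintro _ ⟨z, rfl⟩
      rw [hP, mem_normalizer_iff]
      intro y
      have h1 := mem_normalizer_iff.1 (z : N).2 (y : G)
      simp only [mem_subgroupOf]
      exact h1
    have := solvable_of_le hs hle
    have hs' : Group.IsSolvable (C.subgroupOf N) :=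
      Group.isSolvable_of_isSolvable_injective (f := f.rangeRestrict)
        ((MonoidHom.rangeRestrict_injective_iff).2 hf)
    exact compK_of_solvable
  · let π := (QuotientGroup.mk' C).comp N.subtype
    have hker : π.ker = C.subgroupOf N := by
      rw [← MonoidHom.comap_ker, QuotientGroup.ker_mk']; rfl
    have hsurj : Function.Surjective π := by
      intro y
      obtain ⟨g, rfl⟩ := QuotientGroup.mk'_surjective C y
      have htop : N ⊔ C = ⊤ := by
        have := Sylow.normalizer_sup_eq_top (N := C) P
        rwa [hP, map_subgroupOf_eq_of_le inf_le_right] at this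
      obtain ⟨n, hn, c, hc', rfl⟩ := mem_sup_of_normal_right.1 (htop ▸ mem_top g : g ∈ N ⊔ C)
      refine ⟨⟨n, hn⟩, ?_⟩
      show QuotientGroup.mk' C n = _
      rw [map_mul, show QuotientGroup.mk' C c = 1 from (QuotientGroup.eq_one_iff c).2 hc', mul_one]
    let e := (QuotientGroup.quotientMulEquivOfEq hker).symm.trans
      (QuotientGroup.quotientKerEquivOfSurjective π hsurj)
    exact (hc.of_surjective _ (QuotientGroup.mk'_surjective C)).of_surjective e.symm.toMonoidHom
      e.symm.surjective

end Cfsg.Agent.S4Comp
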