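import Cfsg.Agent.S4Comp.Action

/-!
# A strong module lies in `O₂(G)`
-/

set_option autoImplicit false

namespace Cfsg.Agent.S4Comp

open Subgroup
open Cfsg.Agent.SfFree (cj cj_cj ea_commute ea_sq)

universe u

variable {G : Type u} [Group G] [Finite G]

omit [Finite G] in
theorem map_conj_le_of_normal {Q : Subgroup G} (hQ : Q.Normal) (g : G) :
    Q.map (MulAut.conj g).toMonoidHom ≤ Q := by
  rintro _ ⟨x, hx, rfl⟩
  exact hQ.conj_mem x hx g

/-- A product set bounds the index. -/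
theorem relIndex_le_of_cover {H P C D : Subgroup G} (hPC : P ≤ C) (hHD : H ≤ D)
    (hcov : ∀ z ∈ D, ∃ h ∈ H, h⁻¹ * z ∈ C) : C.relIndex D ≤ P.relIndex H := by
  let f : H ⧸ P.subgroupOf H → D ⧸ C.subgroupOf D :=
    Quotient.lift (fun h : H => (QuotientGroup.mk ⟨(h : G), hHD h.2⟩ : D ⧸ C.subgroupOf D)) fun a b hab =>
      QuotientGroup.eq.2 (mem_subgroupOf.2 (hPC (mem_subgroupOf.1 ((QuotientGroup.leftRel_apply (s := P.subgroupOf H)).1 hab) :)))
  refine Nat.card_le_card_of_surjective f fun q => ?_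
  obtain ⟨⟨z, hz⟩, rfl⟩ := QuotientGroup.mk_surjective q
  obtain ⟨h, hh, hc⟩ := hcov z hz
  exact ⟨QuotientGroup.mk ⟨h, hh⟩, QuotientGroup.eq.2 (mem_subgroupOf.2 hc)⟩

theorem exists_two_pow_relIndex {P H : Subgroup G} (hH : IsPGroup 2 H) :
    ∃ e, P.relIndex H = 2 ^ e := by
  have := Fact.mk Nat.prime_two
  obtain ⟨e, he⟩ := hH.index (P.subgroupOf H)
  exact ⟨e, he⟩

theorem strong_le_core (h : Hyp G) {T V : Subgroup G} (hQT : Cfsg.pCore 2 G ≤ T)
    (hVT : V ≤ T) (hTV : T ≤ normalizer (V : Set G)) (hV : Cfsg.IsElementaryAbelian 2 V)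
    (hs : Strong T V) : V ≤ Cfsg.pCore 2 G := by
  have := Fact.mk Nat.prime_two
  set Q := Cfsg.pCore 2 G with hQdef
  have hQn : Q.Normal := Core.pCore_normal
  by_contra hVQ
  let π := QuotientGroup.mk' Q
  have hπ := QuotientGroup.mk'_surjective Q
  have hVb1 : V.map π ≠ ⊥ := fun e => hVQ fun v hv =>
    (QuotientGroup.eq_one_iff v).1 (mem_bot.1 (e ▸ mem_map_of_mem π hv))
  obtain ⟨A₁, hA1, k, hk, hcard, gb, hgb, xb, hxb, hxb1, r, hr, hr2, hxbr, hcond⟩ :=
    S3Free.exists_pack Core.pCore_quotient_eq_bot h.noS3 (h.comp.of_surjective π hπ) (V.map π)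
      (Thompson.ea_map hV π) hVb1
  set V2 := V ⊓ A₁.comap π
  have hcV : Nat.card V = 2 ^ k * Nat.card V2 := by
    let ψ := π.comp V.subtype
    have e1 : (A₁.comap ψ).index = 2 ^ k := by
      rw [index_comap, show ψ.range = V.map π by rw [MonoidHom.range_comp, range_subtype]]
      have e2 := Coprime.card_mul_relIndex_of_le hA1
      rw [hcard, mul_comm (2 ^ k)] at e2
      exact Nat.eq_of_mul_eq_mul_left Nat.card_pos e2
    have e3 : A₁.comap ψ = V2.subgroupOf V := by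
      rw [← comap_comap, inf_subgroupOf_left]; rfl
    rw [← card_mul_index (A₁.comap ψ), e1, e3,
      Nat.card_congr (subgroupOfEquivOfLe (inf_le_left : V2 ≤ V)).toEquiv, mul_comm]
  set Q1 := Q ⊔ V2
  have hQ1T : Q1 ≤ T := sup_le hQT (inf_le_left.trans hVT)
  have hVQ1 : V ⊓ Q1 = V2 := by
    refine le_antisymm (fun z hz => ⟨hz.1, ?_⟩) (le_inf inf_le_left le_sup_right)
    obtain ⟨q, hq, v, hv, rfl⟩ := mem_sup_of_normal_left.1 hz.2
    show π (q * v) ∈ A₁
    rw [map_mul, show π q = 1 from (QuotientGroup.eq_one_iff q).2 hq, one_mul]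
    exact hv.2
  obtain ⟨g, rfl⟩ := hπ gb
  have hgQ1 : g ∈ normalizer (Q1 : Set G) := by
    refine mem_normalizer_iff_map_conj_eq.2 (eq_of_le_of_card_ge ?_
      (card_map_of_injective (MulAut.conj g).injective).ge)
    rw [Subgroup.map_sup]
    refine sup_le ((map_conj_le_of_normal hQn g).trans le_sup_left) ?_
    rintro _ ⟨v, hv, rfl⟩
    have hd : g * v * g⁻¹ * v⁻¹ ∈ Q := (QuotientGroup.eq_one_iff _).1 (by
      show π (g * v * g⁻¹ * v⁻¹) = 1
      rw [map_mul, map_mul, map_mul, map_inv, map_inv, ← mem_centralizer_iff.1 hgb.2 (π v) hv.2,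
        mul_inv_cancel_right, mul_inv_cancel])
    have := mul_mem (mem_sup_left (T := V2) hd) (mem_sup_right (S := Q) hv)
    rwa [inv_mul_cancel_right] at this
  have hQ1g : cj g Q1 = Q1 := mem_normalizer_iff_map_conj_eq.1 hgQ1
  set Vg := cj g V
  set V3 := cj g V2
  have hVgQ1 : Vg ⊓ Q1 = V3 := by
    conv_lhs => rw [← hQ1g]
    rw [← SfFree.cj_inf, hVQ1]
  have hQ1Vg : Q1 ≤ normalizer (Vg : Set G) := by
    rw [← hQ1g]
    exact (SfFree.cj_mono (hQ1T.trans hTV)).trans (le_normalizer_map _)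
  have hV3Q1 : V3 ≤ Q1 := hVgQ1 ▸ inf_le_right
  set D0 := V2 ⊔ V3
  have hD0Q1 : D0 ≤ Q1 := sup_le le_sup_right hV3Q1
  have hQp : IsPGroup 2 Q := Core.pCore_isPGroup
  have hQ1p : IsPGroup 2 Q1 :=
    hQp.to_sup_of_normal_left ((Thompson.ea_isPGroup hV).to_le inf_le_left)
  set P2 := V2 ⊓ centralizer (Vg : Set G)
  set P3 := V3 ⊓ centralizer (V : Set G)
  set C0 := P2 ⊔ P3
  obtain ⟨e', he'⟩ := exists_two_pow_relIndex (P := P2) (hQ1p.to_le (le_sup_right : V2 ≤ Q1))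
  obtain ⟨e, he⟩ := exists_two_pow_relIndex (P := P3) (hQ1p.to_le hV3Q1)
  have hP2 := Coprime.card_mul_relIndex_of_le (inf_le_left : P2 ≤ V2)
  have hP3 := Coprime.card_mul_relIndex_of_le (inf_le_left : P3 ≤ V3)
  rw [he'] at hP2
  rw [he] at hP3
  have hcV3 : Nat.card V3 = Nat.card V2 := SfFree.card_cj g V2
  -- the two inequalities
  have hb1 : 0 < e → 3 * e < 2 * (k + e') := by
    intro he0
    have hn : ¬ V3 ≤ centralizer (V : Set G) := fun hh => by
      have h1 : P3.relIndex V3 = 1 := relIndex_eq_one.2 (le_inf le_rfl hh)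
      rw [he] at h1
      exact absurd h1 (Nat.one_lt_two_pow he0.ne').ne'
    have hI := (hs V3 (hV3Q1.trans hQ1T) (eaMod_of_ea (SfFree.ea_cj (Thompson.ea_mono hV inf_le_left))) hn).1
    unfold Ineq at hI
    have hle : Nat.card P2 ≤ Nat.card (V ⊓ centralizer (V3 : Set G) : Subgroup G) :=
      card_le_of_le fun z hz => ⟨hz.1.1, centralizer_le (SfFree.cj_mono inf_le_left) hz.2⟩
    rw [← hP3] at hI
    rw [show Nat.card V = 2 ^ k * (2 ^ e' * Nat.card P2) by rw [hcV, ← hP2]; ring] at hI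
    have h3 : (Nat.card P3 * 2 ^ e) ^ 3 * Nat.card P2 ^ 2 <
        (2 ^ k * (2 ^ e' * Nat.card P2)) ^ 2 * Nat.card P3 ^ 3 :=
      lt_of_le_of_lt (Nat.mul_le_mul_left _ (Nat.pow_le_pow_left hle 2)) hI
    have h4 : 2 ^ (3 * e) < 2 ^ (2 * (k + e')) := by
      refine Nat.lt_of_mul_lt_mul_left (a := Nat.card P3 ^ 3 * Nat.card P2 ^ 2) ?_
      calc _ = (Nat.card P3 * 2 ^ e) ^ 3 * Nat.card P2 ^ 2 := by
            rw [mul_pow, ← pow_mul, mul_comm e 3]; ring
        _ < _ := h3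
        _ = _ := by rw [mul_pow, mul_pow, ← pow_mul, ← pow_mul, mul_comm 2 (k + e'), add_mul, pow_add]; ring
    exact (Nat.pow_lt_pow_iff_right Nat.one_lt_two).1 h4
  have hb2 : 0 < e' → 3 * e' < 2 * (k + e) := by
    intro he0
    set R := cj g⁻¹ V2
    have hback : ∀ X : Subgroup G, cj g (cj g⁻¹ X) = X := fun X => by
      rw [cj_cj, mul_inv_cancel, SfFree.cj_one]
    have hback' : ∀ X : Subgroup G, cj g⁻¹ (cj g X) = X := fun X => by
      rw [cj_cj, inv_mul_cancel, SfFree.cj_one]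
    have hRQ1 : R ≤ Q1 := by
      exact (SfFree.cj_mono (g := g⁻¹) (le_sup_right : V2 ≤ Q1)).trans
        ((congrArg (cj g⁻¹) hQ1g).symm.trans (hback' Q1)).le
    have hn : ¬ R ≤ centralizer (V : Set G) := fun hh => by
      have hh' := SfFree.cj_mono (g := g) hh
      rw [hback, SfFree.cj_centralizer] at hh'
      have h1 : P2.relIndex V2 = 1 := relIndex_eq_one.2 (le_inf le_rfl hh')
      rw [he'] at h1
      exact absurd h1 (Nat.one_lt_two_pow he0.ne').ne'
    have hI := (hs R (hRQ1.trans hQ1T) (eaMod_of_ea (SfFree.ea_cj (Thompson.ea_mono hV inf_le_left))) hn).1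
    unfold Ineq at hI
    have eR : Nat.card (R ⊓ centralizer (V : Set G) : Subgroup G) = Nat.card P2 := by
      rw [← SfFree.card_cj g (R ⊓ centralizer (V : Set G)), SfFree.cj_inf, hback, SfFree.cj_centralizer]
    have hle : Nat.card P3 ≤ Nat.card (V ⊓ centralizer (R : Set G) : Subgroup G) := by
      rw [← SfFree.card_cj g (V ⊓ centralizer (R : Set G)), SfFree.cj_inf, SfFree.cj_centralizer, hback]
      exact card_le_of_le fun z hz => ⟨SfFree.cj_mono inf_le_left hz.1, centralizer_le inf_le_left hz.2⟩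
    rw [eR, show Nat.card R = Nat.card P2 * 2 ^ e' by rw [hP2]; exact SfFree.card_cj _ V2] at hI
    rw [show Nat.card V = 2 ^ k * (2 ^ e * Nat.card P3) by rw [hcV, ← hcV3, ← hP3]; ring] at hI
    have h3 : (Nat.card P2 * 2 ^ e') ^ 3 * Nat.card P3 ^ 2 <
        (2 ^ k * (2 ^ e * Nat.card P3)) ^ 2 * Nat.card P2 ^ 3 :=
      lt_of_le_of_lt (Nat.mul_le_mul_left _ (Nat.pow_le_pow_left hle 2)) hI
    have h4 : 2 ^ (3 * e') < 2 ^ (2 * (k + e)) := by
      refine Nat.lt_of_mul_lt_mul_left (a := Nat.card P2 ^ 3 * Nat.card P3 ^ 2) ?_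
      calc _ = (Nat.card P2 * 2 ^ e') ^ 3 * Nat.card P3 ^ 2 := by
            rw [mul_pow, ← pow_mul, mul_comm e' 3]; ring
        _ < _ := h3
        _ = _ := by rw [mul_pow, mul_pow, ← pow_mul, ← pow_mul, mul_comm 2 (k + e), add_mul, pow_add]; ring
    exact (Nat.pow_lt_pow_iff_right Nat.one_lt_two).1 h4
  have hsum : e' + e ≤ 4 * k - 2 := by
    rcases Nat.eq_zero_or_pos e with h0 | h0 <;> rcases Nat.eq_zero_or_pos e' with h0' | h0'
    · omega
    · have := hb2 h0'; omega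
    · have := hb1 h0; omega
    · have := hb1 h0; have := hb2 h0'; omega
  -- the index
  have hV2Vg : V3 ≤ normalizer (V2 : Set G) := by
    rw [← hVQ1]
    exact (le_inf ((hV3Q1.trans hQ1T).trans hTV) (hV3Q1.trans le_normalizer)).trans
      inf_normalizer_le_normalizer_inf
  have hP3c : P3 ≤ centralizer (V2 : Set G) := inf_le_right.trans (centralizer_le inf_le_left)
  have hi1 : C0.relIndex (V2 ⊔ P3) ≤ 2 ^ e' := by
    rw [← he']
    refine relIndex_le_of_cover le_sup_left le_sup_left fun z hz => ?_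
    obtain ⟨v, hv, p, hp, rfl⟩ :=
      (Coprime.mem_sup_of_le_normalizer (hP3c.trans (centralizer_le_normalizer _))).1 hz
    exact ⟨v, hv, by rw [inv_mul_cancel_left]; exact mem_sup_right hp⟩
  have hi2 : (V2 ⊔ P3).relIndex D0 ≤ 2 ^ e := by
    rw [← he]
    refine relIndex_le_of_cover le_sup_right le_sup_right fun z hz => ?_
    obtain ⟨v, hv, w, hw, rfl⟩ := (Coprime.mem_sup_of_le_normalizer hV2Vg).1 hz
    refine ⟨w, hw, mem_sup_left ?_⟩
    rw [← mul_assoc]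
    have := (mem_normalizer_iff.1 (inv_mem (hV2Vg hw)) v).1 hv
    rwa [inv_inv] at this
  have hC0D : C0 ≤ V2 ⊔ P3 := sup_le_sup_right inf_le_left _
  have hidx : C0.relIndex D0 ≤ 2 ^ (4 * k - 2) := by
    rw [← relIndex_mul_relIndex C0 (V2 ⊔ P3) D0 hC0D (sup_le_sup_left inf_le_left _)]
    exact ((Nat.mul_le_mul hi1 hi2).trans (pow_add 2 e' e).ge).trans (Nat.pow_le_pow_right two_pos hsum)
  -- a lift of `x`
  obtain ⟨w, hw, rfl⟩ : xb ∈ (V ⊔ Vg).map π := by
    rw [Subgroup.map_sup, S3Free.map_cj]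
    exact hxb
  obtain ⟨n, hn1, hxr⟩ := S3Free.exists_rPart π hr (w := w) hxbr hxb1
  set x := w ^ n
  have hx : x ∈ V ⊔ Vg := pow_mem hw n
  let K : Subgroup G :=
    { carrier := {y | y ∈ normalizer (Q1 : Set G) ∧ y ∈ normalizer (D0 : Set G) ∧
        ∀ q ∈ Q1, y * q * y⁻¹ * q⁻¹ ∈ D0}
      one_mem' := ⟨one_mem _, one_mem _, fun q _ => by simp⟩
      mul_mem' := fun {a b} ha hb => ⟨mul_mem ha.1 hb.1, mul_mem ha.2.1 hb.2.1, fun q hq => by
        have e : a * b * q * (a * b)⁻¹ * q⁻¹ =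
            a * (b * q * b⁻¹ * q⁻¹) * a⁻¹ * (a * q * a⁻¹ * q⁻¹) := by group
        rw [e]
        exact mul_mem ((mem_normalizer_iff.1 ha.2.1 _).1 (hb.2.2 q hq)) (ha.2.2 q hq)⟩
      inv_mem' := fun {a} ha => ⟨inv_mem ha.1, inv_mem ha.2.1, fun q hq => by
        have hq' : a⁻¹ * q * a⁻¹⁻¹ ∈ Q1 := (mem_normalizer_iff.1 (inv_mem ha.1) q).1 hq
        have e : a⁻¹ * q * a⁻¹⁻¹ * q⁻¹ = (a * (a⁻¹ * q * a⁻¹⁻¹) * a⁻¹ * (a⁻¹ * q * a⁻¹⁻¹)⁻¹)⁻¹ := by
          group
        rw [e]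
        exact inv_mem (ha.2.2 _ hq')⟩ }
  have hK : ∀ {U U2 : Subgroup G}, U ⊓ Q1 = U2 → U2 ≤ D0 → Q1 ≤ normalizer (U : Set G) →
      (∀ y ∈ U, y ∈ normalizer (Q1 : Set G)) → U ≤ K := by
    intro U U2 hU hU2 hn hyn y hy
    have hc : ∀ q ∈ Q1, y * q * y⁻¹ * q⁻¹ ∈ D0 := fun q hq => hU2 (hU ▸ mem_inf.2
      ⟨by rw [mul_assoc, mul_assoc]
          refine mul_mem hy ?_
          rw [← mul_assoc]
          exact (mem_normalizer_iff.1 (hn hq) _).1 (inv_mem hy),
        mul_mem ((mem_normalizer_iff.1 (hyn y hy) q).1 hq) (inv_mem hq)⟩)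
    refine ⟨hyn y hy, QdFree.ZJControl.mem_normalizer_of_conj fun z hz => ?_, hc⟩
    have := mul_mem (hc z (hD0Q1 hz)) hz
    rwa [inv_mul_cancel_right] at this
  have hVn : ∀ y ∈ V, y ∈ normalizer (Q1 : Set G) := by
    intro y hy
    refine mem_normalizer_iff_map_conj_eq.2 (eq_of_le_of_card_ge ?_
      (card_map_of_injective (MulAut.conj y).injective).ge)
    rw [Subgroup.map_sup]
    refine sup_le ((map_conj_le_of_normal hQn y).trans le_sup_left) ?_
    rintro _ ⟨v, hv, rfl⟩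
    refine mem_sup_right (S := Q) ?_
    show y * v * y⁻¹ ∈ V2
    rwa [(ea_commute hV hy hv.1).eq, mul_inv_cancel_right]
  have hVgn : ∀ y ∈ Vg, y ∈ normalizer (Q1 : Set G) := by
    rintro _ ⟨v, hv, rfl⟩
    exact mul_mem (mul_mem hgQ1 (hVn v hv)) (inv_mem hgQ1)
  have hxK : x ∈ K := sup_le (hK hVQ1 le_sup_left (hQ1T.trans hTV) hVn)
    (hK hVgQ1 le_sup_right hQ1Vg hVgn) hx
  have hxC0 : x ∈ centralizer (C0 : Set G) := by
    refine (show V ⊔ Vg ≤ centralizer (C0 : Set G) from sup_le ?_ ?_) hx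
    · refine le_centralizer_iff.1 (sup_le ?_ inf_le_right)
      exact (inf_le_left.trans inf_le_left).trans (le_centralizer_iff_isMulCommutative.2 hV.1)
    · refine le_centralizer_iff.1 (sup_le inf_le_right ?_)
      exact (inf_le_left.trans (SfFree.cj_mono inf_le_left)).trans
        (le_centralizer_iff_isMulCommutative.2 (SfFree.ea_cj (g := g) hV).1)
  have hxD := S3Free.mem_centralizer_of_index hr hr2 (hQ1p.to_le hD0Q1)
    (hC0D.trans (sup_le_sup_left inf_le_left _)) hxK.2.1 hxC0 hxr hidx hcond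
  have hxQ : x ∈ centralizer (Q : Set G) := mem_centralizer_iff.2 fun q hq =>
    (QdFree.ZJControl.commute_of_stable (hQ1p.to_le hD0Q1) (S3Free.coprime_orderOf hr hr2 hxr) hxD
      (hxK.2.2 q (mem_sup_left hq))).eq.symm
  exact hn1 ((QuotientGroup.eq_one_iff x).2 (h.char2 hxQ))

end Cfsg.Agent.S4Comp
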