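import Cfsg.Agent.S4Comp.Crit
import Cfsg.Agent.S4Comp.Tools
import Cfsg.Agent.S4Comp.Quot

/-!
# The factorisation through the centre of the join of the E-groups
-/

set_option autoImplicit false

namespace Cfsg.Agent.S4Comp

open Subgroup
open Cfsg.Agent.SfFree (Mem jS le_jS jS_le cj cj_cj ea_commute ea_sq)
open Cfsg.Agent.S3Free (CompK)
open scoped commutatorElement

universe u

theorem map_normal_pTwo {G : Type u} [Group G] {C : Subgroup G} [C.Normal] {S : Subgroup G}
    (hS : IsPGroup 2 S) [Finite G] :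
    Group.IsSolvable ((C ⊔ S : Subgroup G).map (QuotientGroup.mk' C)) := by
  have := Fact.mk Nat.prime_two
  rw [Subgroup.map_sup, QuotientGroup.map_mk'_self, bot_sup_eq]
  have := (hS.map (QuotientGroup.mk' C)).isNilpotent
  infer_instance

/-- The third factorisation. -/
theorem p3_aux (n : ℕ) : ∀ (G : Type u) [Group G] [Finite G], Nat.card G = n → Hyp G →
    ∀ S : Sylow 2 G, P3 (S : Subgroup G) := by
  induction n using Nat.strong_induction_on with
  | _ n ih =>
  intro G _ _ hn h S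
  subst hn
  have := Fact.mk Nat.prime_two
  set Q := Cfsg.pCore 2 G
  have hQn : Q.Normal := Core.pCore_normal
  have hQS : Q ≤ S := Core.pCore_le_sylow S
  set J := jS (S : Subgroup G)
  set W := wJ (S : Subgroup G)
  have hSjh : ∀ s ∈ (S : Subgroup G), s ∈ normalizer (jh (S : Subgroup G) : Set G) :=
    fun s hs => mem_normalizer_jh (le_normalizer hs)
  -- recursion
  have rec1 : ∀ M : Subgroup G, M ≠ ⊤ → CompK M → (S : Subgroup G) ≤ M →
      ∀ m ∈ M, ∃ c ∈ centralizer (W : Set G), ∃ j ∈ normalizer (J : Set G), m = c * j := by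
    intro M hM hc hSM
    exact p3_lift hSM (ih _ (Core.card_lt_of_ne_top hM) M rfl (h.sub (hQS.trans hSM) hc) (S.subtype hSM))
  have rec1' : ∀ M : Subgroup G, M ≠ ⊤ → CompK M → (S : Subgroup G) ≤ M →
      ∀ m ∈ M, ∃ j ∈ normalizer (J : Set G), ∃ c ∈ centralizer (W : Set G), m = j * c := by
    intro M hM hc hSM m hm
    obtain ⟨c, hc', j, hj, e⟩ := rec1 M hM hc hSM m⁻¹ (inv_mem hm)
    exact ⟨j⁻¹, inv_mem hj, c⁻¹, inv_mem hc', by rw [← mul_inv_rev, ← e, inv_inv]⟩
  have rec2 : ∀ C : Subgroup G, C.Normal → C ≠ ⊤ → jh (S : Subgroup G) ≤ C →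
      ∀ c ∈ C, ∃ d ∈ centralizer (W : Set G), ∃ j ∈ normalizer (J : Set G), c = d * j := by
    intro C hC hne hJ
    obtain ⟨P, hP⟩ := Invol.exists_sylow_eq_inf S C
    have hp := ih _ (Core.card_lt_of_ne_top hne) C rfl (h.normal hC) P
    rw [hP] at hp
    have hle : (S : Subgroup G) ⊓ C ≤ S := inf_le_left
    have hJle : jh (S : Subgroup G) ≤ (S : Subgroup G) ⊓ C := le_inf (jh_le _) hJ
    have e1 : wJ ((S : Subgroup G) ⊓ C) = W := by
      show Cfsg.omegaOne 2 _ = Cfsg.omegaOne 2 _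
      rw [jh_eq_of_le hle hJle]
    have e2 := jS_eq_of_le hle ((jS_le_jh _).trans hJle)
    have := p3_lift (inf_le_right : (S : Subgroup G) ⊓ C ≤ C) hp
    rw [e1, e2] at this
    exact this
  -- the three reductions
  have toolA : ∀ C : Subgroup G, C.Normal → C ≠ ⊤ → jh (S : Subgroup G) ≤ C → P3 (S : Subgroup G) := by
    intro C hC hne hJ g
    obtain ⟨c, hc, m, hm, rfl⟩ := frattini S C g
    obtain ⟨d, hd, j, hj, rfl⟩ := rec2 C hC hne hJ c hc
    exact ⟨d, hd, j * m, mul_mem hj (normalizer_inf_le_normalizer_jS S ((jS_le_jh _).trans hJ) hm),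
      mul_assoc d j m⟩
  have toolB : ∀ C : Subgroup G, C.Normal → C ⊔ (S : Subgroup G) ≠ ⊤ → J ≤ C → P3 (S : Subgroup G) := by
    intro C hC hne hJ g
    obtain ⟨c, hc, m, hm, rfl⟩ := frattini S C g
    obtain ⟨d, hd, j, hj, rfl⟩ := rec1 _ hne (compK_of_le h.comp le_sup_left (map_normal_pTwo S.2))
      le_sup_right c (mem_sup_left hc)
    exact ⟨d, hd, j * m, mul_mem hj (normalizer_inf_le_normalizer_jS S hJ hm), mul_assoc d j m⟩
  set T := jh (S : Subgroup G) ⊔ Q
  have hTS : T ≤ S := sup_le (jh_le _) hQS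
  have hJT : J ≤ T := (jS_le_jh _).trans le_sup_left
  have hjhC : jh (S : Subgroup G) ≤ centralizer (W : Set G) := jh_le_centralizer_wJ _
  by_cases hEG : EG T
  · -- `W` lies in the centre of `Q`
    have hQjh : Q ≤ jh (S : Subgroup G) := le_sup_right.trans (le_jh hTS hEG hJT)
    have hWQ' : W ≤ centralizer (Q : Set G) :=
      ((Thompson.omegaOne_le 2 _).trans inf_le_right).trans (centralizer_le hQjh)
    have hWQ : W ≤ Q := hWQ'.trans h.char2
    set M := Cfsg.omegaOne 2 (Q ⊓ centralizer (Q : Set G))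
    have hMe : Cfsg.IsElementaryAbelian 2 M :=
      Thompson.omegaOne_ea (inf_le_right.trans (centralizer_le inf_le_left))
    have hWM : W ≤ M := fun w hw =>
      Thompson.mem_omegaOne (mem_inf.2 ⟨hWQ hw, hWQ' hw⟩) ((wJ_ea _).2 w hw)
    have hMn : M.Normal := by
      refine normalizer_eq_top_iff.1 (eq_top_iff.2 fun g _ => mem_normalizer_iff_map_conj_eq.2 ?_)
      have e := Thompson.omegaOne_map_of_injective (f := (MulAut.conj g).toMonoidHom) (p := 2)
        (MulAut.conj g).injective (Q ⊓ centralizer (Q : Set G))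
      rw [show (Q ⊓ centralizer (Q : Set G)).map (MulAut.conj g).toMonoidHom = Q ⊓ centralizer (Q : Set G) from
        mem_normalizer_iff_map_conj_eq.1 (by
          rw [normalizer_eq_top_iff.2 (inferInstance : (Q ⊓ centralizer (Q : Set G)).Normal)]
          exact mem_top g)] at e
      exact e
    set C := centralizer (M : Set G)
    have hCW : C ≤ centralizer (W : Set G) := centralizer_le hWM
    have hQC : Q ≤ C :=
      le_centralizer_iff.1 ((Thompson.omegaOne_le 2 _).trans inf_le_right)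
    by_cases hO : Cfsg.pCore 2 (G ⧸ C) = ⊥
    · intro g
      have hjC := reduced h S hMe hO
      obtain ⟨c, hc, m, hm, rfl⟩ := frattini S C g
      exact ⟨c, hCW hc, m, normalizer_inf_le_normalizer_jS S ((jS_le_jh _).trans hjC) hm, rfl⟩
    set π := QuotientGroup.mk' C
    have hn' : (Cfsg.pCore 2 (G ⧸ C)).Normal := Core.pCore_normal
    set D := (Cfsg.pCore 2 (G ⧸ C)).comap π
    set R := (S : Subgroup G) ⊓ D
    set N := normalizer (R : Set G)
    have hDR : ∀ d ∈ D, ∃ r ∈ R, π r = π d := by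
      obtain ⟨P, hP⟩ := Invol.exists_sylow_eq_inf S D
      let ψ := π.subgroupComap (Cfsg.pCore 2 (G ⧸ C))
      have hψ : Function.Surjective ψ := fun z => by
        obtain ⟨w, hw⟩ := QuotientGroup.mk'_surjective C (z : G ⧸ C)
        exact ⟨⟨w, show π w ∈ _ from hw ▸ z.2⟩, Subtype.ext hw⟩
      have htop : (P : Subgroup D).map ψ = ⊤ :=
        ((P.mapSurjective hψ).3 (Core.pCore_isPGroup.to_subgroup ⊤) le_top).symm.trans rfl
      intro d hd
      obtain ⟨r, hr, hrd⟩ := htop.ge (mem_top (ψ ⟨d, hd⟩))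
      rw [hP] at hr
      exact ⟨r, mem_subgroupOf.1 hr, congrArg Subtype.val hrd⟩
    have hSN : (S : Subgroup G) ≤ N := fun s hs => by
      refine QdFree.ZJControl.mem_normalizer_of_conj fun r hr => mem_inf.2 ⟨?_, ?_⟩
      · exact mul_mem (mul_mem hs (mem_inf.1 hr).1) (inv_mem hs)
      · exact (inferInstance : D.Normal).conj_mem r (mem_inf.1 hr).2 s
    have hN : N ≠ ⊤ := by
      intro e
      have hRn : R.Normal := normalizer_eq_top_iff.1 e
      have hRQ : R ≤ C := (Core.le_pCore (S.2.to_le inf_le_left)).trans hQC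
      refine hO (eq_bot_iff.2 fun z hz => ?_)
      obtain ⟨d, rfl⟩ := QuotientGroup.mk'_surjective C z
      obtain ⟨r, hr, hrd⟩ := hDR d hz
      rw [mem_bot, ← hrd]
      exact (QuotientGroup.eq_one_iff r).2 (hRQ hr)
    intro g
    obtain ⟨d, hd, m, hm, rfl⟩ := frattini S D g
    obtain ⟨r, hr, hrd⟩ := hDR d hd
    have hdc : d * r⁻¹ ∈ C := (QuotientGroup.eq_one_iff _).1 (by
      show π (d * r⁻¹) = 1
      rw [map_mul, map_inv, hrd, mul_inv_cancel])
    obtain ⟨c, hc, j, hj, e⟩ := rec1 N hN (compK_frattini h.comp S D) hSN (r * m)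
      (mul_mem (le_normalizer hr) hm)
    refine ⟨d * r⁻¹ * c, mul_mem (hCW hdc) hc, j, hj, ?_⟩
    rw [mul_assoc _ c j, ← e]
    group
  -- a strong module inside `T`
  simp only [EG, not_forall] at hEG
  obtain ⟨V, hVT, hTV, hVe, hVs, hVn⟩ := hEG
  have hVS : V ≤ S := hVT.trans hTS
  have hmem : ∀ A, Mem (S : Subgroup G) A → A ≤ centralizer (V : Set G) := fun A hA =>
    mem_le_centralizer hVS hVe hA fun hn =>
      (hVs A ((le_jS hA).trans hJT) (eaMod_of_ea hA.2.1) hn).1
  obtain ⟨A₀, hA₀⟩ := SfFree.exists_mem (S : Subgroup G)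
  have hVA : V ≤ A₀ := hA₀.le_of_centralizer hVS hVe (le_centralizer_iff.1 (hmem A₀ hA₀))
  have hjhV : jh (S : Subgroup G) ≤ centralizer (V : Set G) := iSup₂_le fun U hU => by
    have hUT : U ≤ T := (le_jh hU.1 hU.2.1 hU.2.2).trans le_sup_left
    exact hU.2.1 V ((hVA.trans (le_jS hA₀)).trans hU.2.2) (hUT.trans hTV) hVe
      fun R hR he hn => hVs R (hR.trans hUT) he hn
  have hVW : V ≤ W := fun v hv => Thompson.mem_omegaOne
    (mem_inf.2 ⟨jS_le_jh _ (le_jS hA₀ (hVA hv)), le_centralizer_iff.1 hjhV hv⟩) (hVe.2 v hv)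
  have hQV : ¬ Q ≤ centralizer (V : Set G) := fun hh => hVn (sup_le hjhV hh)
  have hVQ : V ≤ Q := strong_le_core h le_sup_right hVT hTV hVe hVs
  obtain ⟨hPQ, hPe, hPch⟩ := (Mod.mk hQn le_sup_right hVQ hVe hVs : Mod Q T V).clos_facts
  set V0 := ⨆ (s : G) (_ : s ∈ (S : Subgroup G)), cj s V
  have hSW : ∀ s ∈ (S : Subgroup G), cj s W = W := fun s hs => by
    show W.map (MulAut.conj s).toMonoidHom = W
    have hS : (S : Subgroup G).map (MulAut.conj s).toMonoidHom = S :=
      mem_normalizer_iff_map_conj_eq.1 (le_normalizer hs : s ∈ normalizer ((S : Subgroup G) : Set G))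
    refine (wJ_map (ι := (MulAut.conj s).toMonoidHom) (MulAut.conj s).injective (S : Subgroup G)).symm.trans ?_
    rw [hS]
  have hV0W : V0 ≤ W := iSup₂_le fun s hs => (SfFree.cj_mono hVW).trans (hSW s hs).le
  have hSV0 : (S : Subgroup G) ≤ normalizer (V0 : Set G) := by
    intro s hs
    refine mem_normalizer_iff_map_conj_eq.2 (eq_of_le_of_card_ge ?_
      (card_map_of_injective (MulAut.conj s).injective).ge)
    simp only [V0, Subgroup.map_iSup]
    refine iSup₂_le fun t ht => ?_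
    show cj s (cj t V) ≤ _
    rw [cj_cj]
    exact le_iSup₂ (f := fun (s : G) (_ : s ∈ (S : Subgroup G)) => cj s V) (s * t) (mul_mem hs ht)
  have hVV0 : V ≤ V0 := (SfFree.cj_one V).ge.trans
    (le_iSup₂ (f := fun (s : G) (_ : s ∈ (S : Subgroup G)) => cj s V) 1 (one_mem _))
  have hclos : clos V0 = clos V := le_antisymm
    (iSup_le fun g => cj_le_of_normal (clos_normal V)
      (iSup₂_le fun s _ => le_iSup (fun g => cj g V) s) g)
    (iSup_le fun g => (SfFree.cj_mono hVV0).trans (le_iSup (fun g => cj g V0) g))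
  rw [← hclos] at hPQ hPe hPch
  set P := clos V0
  set C := centralizer (P : Set G)
  have hPn : P.Normal := clos_normal V0
  have hCn : C.Normal := inferInstance
  have hCne : C ≠ ⊤ := fun e => hQV fun q _ =>
    centralizer_le (hVV0.trans (le_clos V0)) (show q ∈ C from e.ge (mem_top q))
  have hJC : ∀ A, Mem (S : Subgroup G) A → A ≤ C := by
    intro A hA
    have hAV0 : A ≤ centralizer (V0 : Set G) :=
      ((le_jS hA).trans ((jS_le_jh _).trans hjhC)).trans (centralizer_le hV0W)
    by_cases hex : ∃ N : Subgroup G, N.Normal ∧ N ⊔ (S : Subgroup G) ≠ ⊤ ∧ ¬ (S : Subgroup G) ⊓ N ≤ Q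
    · obtain ⟨N, hN, hNS, hNQ⟩ := hex
      set K := normalizer (((S : Subgroup G) ⊓ N : Subgroup G) : Set G)
      have hK : K ≠ ⊤ := fun e => by
        have : ((S : Subgroup G) ⊓ N).Normal := normalizer_eq_top_iff.1 e
        exact hNQ (Core.le_pCore (S.2.to_le inf_le_left))
      have hSK : (S : Subgroup G) ≤ K := fun s hs => by
        refine QdFree.ZJControl.mem_normalizer_of_conj fun r hr => mem_inf.2 ⟨?_, ?_⟩
        · exact mul_mem (mul_mem hs (mem_inf.1 hr).1) (inv_mem hs)
        · exact hN.conj_mem r (mem_inf.1 hr).2 s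
      refine le_centralizer_iff.1 (iSup_le fun g => ?_)
      obtain ⟨x, hx, m, hm, rfl⟩ := frattini S N g
      obtain ⟨j, hj, c, hc, rfl⟩ := rec1' K hK (compK_frattini h.comp S N) hSK m hm
      obtain ⟨j', hj', c', hc', e⟩ := rec1' _ hNS (compK_of_le h.comp le_sup_left (map_normal_pTwo S.2))
        le_sup_right (j⁻¹ * x * j) (mem_sup_left (by
          have := hN.conj_mem x hx j⁻¹
          rwa [inv_inv] at this))
      have hfix : ∀ c ∈ centralizer (W : Set G), cj c V0 = V0 := fun c hc =>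
        SfFree.cj_of_commute (centralizer_le hV0W hc)
      rw [show x * (j * c) = j * ((j⁻¹ * x * j) * c) by group, e, ← cj_cj, ← cj_cj, hfix c hc,
        ← cj_cj j' c', hfix c' hc', cj_cj]
      have hA' : V0 ≤ centralizer (J : Set G) :=
        le_centralizer_iff.1 (((jS_le_jh _).trans hjhC).trans (centralizer_le hV0W))
      refine (SfFree.cj_mono hA').trans ?_
      rw [SfFree.cj_centralizer, SfFree.cj_of_mem_normalizer (mul_mem hj hj')]
      exact centralizer_le (le_jS hA)
    · push Not at hex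
      exact mem_le_centralizer_clos h hex hSV0 hPe hPQ hPch hA hAV0
  by_cases hCS : C ⊔ (S : Subgroup G) = ⊤
  · have hPV : P ≤ V0 := iSup_le fun g => by
      obtain ⟨c, hc, s, hs, rfl⟩ := mem_sup_of_normal_left.1 (hCS.ge (mem_top g))
      rw [← cj_cj, SfFree.cj_of_mem_normalizer (hSV0 hs),
        SfFree.cj_of_commute (centralizer_le (le_clos V0) hc)]
    exact toolA C hCn hCne (hjhC.trans (centralizer_le (hPV.trans hV0W)))
  · exact toolB C hCn hCS (iSup₂_le hJC)

theorem p3 {G : Type u} [Group G] [Finite G] (h : Hyp G) (S : Sylow 2 G) : P3 (S : Subgroup G) :=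
  p3_aux _ G rfl h S

end Cfsg.Agent.S4Comp
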