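import Cfsg.Agent.S4Comp.PairCtl

/-!
# A strongly closed abelian subgroup
-/

set_option autoImplicit false

namespace Cfsg.Agent.S4Comp

open Subgroup
open Cfsg.Agent.SfFree (Mem jS le_jS jS_le)
open Cfsg.Agent.Control (cjSub SylIn)
open scoped commutatorElement

universe u

theorem closed_aux (n : ℕ) : ∀ (G : Type u) [Group G] [Finite G], Nat.card G = n → SecHyp G →
    ∀ (S : Sylow 2 G) (A : Subgroup G), A ≤ wJ (S : Subgroup G) →
      normalizer (jS (S : Subgroup G) : Set G) ≤ normalizer (A : Set G) →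
      ∀ a ∈ A, ∀ g : G, g * a * g⁻¹ ∈ (S : Subgroup G) → g * a * g⁻¹ ∈ A := by
  induction n using Nat.strong_induction_on with
  | _ n ih =>
  intro G _ _ hn h S A hAW hNA
  subst hn
  have := Fact.mk Nat.prime_two
  set J := jS (S : Subgroup G)
  have hJS : J ≤ S := jS_le _
  have hAJ : A ≤ J := hAW.trans (wJ_le_jS _)
  have hsub : ∀ (Y T : Subgroup G), Y ≠ ⊤ → SylIn 2 T Y → T ≤ S → J ≤ T →
      ∀ a ∈ A, ∀ y ∈ Y, y * a * y⁻¹ ∈ (S : Subgroup G) → y * a * y⁻¹ ∈ A := by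
    intro Y T hY hT hTS hJT a ha y hy hya
    have hTe : (T.subgroupOf Y).map Y.subtype = T := map_subgroupOf_eq_of_le hT.le
    let S' : Sylow 2 Y := (hT.isPGroup.comap_subtype (K := Y)).toSylow hT.not_dvd
    have haY : a ∈ Y := hT.le (hJT (hAJ ha))
    have hST : (S : Subgroup G) ⊓ Y = T :=
      hT.eq_of_le (S.2.to_le inf_le_left) inf_le_right (le_inf hTS hT.le)
    have hJT' : jS T = J := jS_eq_of_le hTS hJT
    have hA' : A.subgroupOf Y ≤ wJ (S' : Subgroup Y) := by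
      intro z hz
      have h1 : (z : G) ∈ wJ T := wJ_le_wJ hTS hJT (hAW (mem_subgroupOf.1 hz))
      rw [← hTe, wJ_map Y.subtype_injective] at h1
      exact (mem_map_iff_mem Y.subtype_injective).1 h1
    have hN' : normalizer (jS (S' : Subgroup Y) : Set Y) ≤ normalizer (A.subgroupOf Y : Set Y) := by
      intro z hz
      have h1 : (z : G) ∈ normalizer (J : Set G) := by
        rw [← hJT', ← hTe, SfFree.jS_map Y.subtype_injective]
        exact le_normalizer_map Y.subtype ⟨z, hz, rfl⟩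
      exact le_normalizer_comap Y.subtype (show z ∈ (normalizer (A : Set G)).comap Y.subtype from hNA h1)
    have hyT : (⟨y, hy⟩ : Y) * ⟨a, haY⟩ * (⟨y, hy⟩ : Y)⁻¹ ∈ T.subgroupOf Y :=
      mem_subgroupOf.2 (hST.le (mem_inf.2 ⟨hya, mul_mem (mul_mem hy haY) (inv_mem hy)⟩))
    exact mem_subgroupOf.1 (ih _ (Core.card_lt_of_ne_top hY) Y rfl (h.subgroup Y) S' (A.subgroupOf Y) hA' hN'
      ⟨a, haY⟩ (mem_subgroupOf.2 ha) ⟨y, hy⟩ hyT)
  have hsubS : ∀ Y : Subgroup G, Y ≠ ⊤ → (S : Subgroup G) ≤ Y →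
      ∀ a ∈ A, ∀ y ∈ Y, y * a * y⁻¹ ∈ (S : Subgroup G) → y * a * y⁻¹ ∈ A := fun Y hY hSY =>
    hsub Y _ hY ((Control.sylIn_top S).mono hSY le_top) le_rfl hJS
  set Q := Cfsg.pCore 2 G
  have hQn : Q.Normal := Core.pCore_normal
  have hQp : IsPGroup 2 Q := Core.pCore_isPGroup
  have hQS : Q ≤ S := Core.pCore_le_sylow S
  -- the part inside the core
  have step1 : ∀ a ∈ A, a ∈ Q → ∀ g : G, g * a * g⁻¹ ∈ A := by
    intro a ha haQ g
    set C := centralizer (Q : Set G)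
    have hCn : C.Normal := inferInstance
    have hfix : ∀ {c z : G}, c ∈ C → z ∈ Q → c * z * c⁻¹ = z := fun hc hz =>
      mul_inv_eq_iff_eq_mul.2 (mem_centralizer_iff.1 hc _ hz).symm
    by_cases hT0 : (S : Subgroup G) ⊓ C ≤ Q
    · obtain ⟨c, hc, m, hm, rfl⟩ := (cent_fac h S hT0).2 g
      have h1 : m * a * m⁻¹ ∈ A := (mem_normalizer_iff.1 (hNA hm) a).1 ha
      have h2 : m * a * m⁻¹ ∈ wJ (S : Subgroup G) ⊓ Q := mem_inf.2 ⟨hAW h1, hQn.conj_mem a haQ m⟩
      rw [show c * m * a * (c * m)⁻¹ = c * (m * a * m⁻¹) * c⁻¹ by group,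
        ← mem_centralizer_iff.1 hc _ h2, mul_inv_cancel_right]
      exact h1
    · obtain ⟨c, hc, m, hm, rfl⟩ := frattini S C g
      have hN0 : normalizer (((S : Subgroup G) ⊓ C : Subgroup G) : Set G) ≠ ⊤ := fun e => by
        have : ((S : Subgroup G) ⊓ C).Normal := normalizer_eq_top_iff.1 e
        exact hT0 (Core.le_pCore (S.2.to_le inf_le_left))
      have hSN0 : (S : Subgroup G) ≤ normalizer (((S : Subgroup G) ⊓ C : Subgroup G) : Set G) :=
        (le_inf le_normalizer (by rw [normalizer_eq_top_iff.2 hCn]; exact le_top)).trans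
          inf_normalizer_le_normalizer_inf
      have h1 := hsubS _ hN0 hSN0 a ha m hm (hQS (hQn.conj_mem a haQ m))
      rw [show c * m * a * (c * m)⁻¹ = c * (m * a * m⁻¹) * c⁻¹ by group, hfix hc (hQn.conj_mem a haQ m)]
      exact h1
  intro a ha g hg
  by_cases hSQ : (S : Subgroup G) ≤ Q
  · exact step1 a ha (hSQ (hJS (hAJ ha))) g
  set π := QuotientGroup.mk' Q
  have hπ := QuotientGroup.mk'_surjective Q
  let Sb := S.mapSurjective hπ
  have hSb : (Sb : Subgroup (G ⧸ Q)) ≠ ⊥ := fun e => hSQ fun z hz =>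
    (QuotientGroup.eq_one_iff z).1 (mem_bot.1 (e ▸ mem_map_of_mem π hz))
  have hpre : ∀ z : G, π z ∈ (Sb : Subgroup (G ⧸ Q)) → z ∈ (S : Subgroup G) := by
    rintro z ⟨s, hs, e⟩
    have := mul_mem hs (hQS ((QuotientGroup.eq (s := Q)).1 e))
    rwa [mul_inv_cancel_left] at this
  have hprop : ∀ N ∈ pairSet (Sb : Subgroup (G ⧸ Q)), N.comap π ≠ ⊤ ∧ (S : Subgroup G) ≤ N.comap π := by
    have hnb : ∀ U : Subgroup (G ⧸ Q), U ≤ (Sb : Subgroup (G ⧸ Q)) → U.Normal → U = ⊥ := fun U hU hUn =>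
      le_bot_iff.1 ((Core.le_pCore (p := 2) (Sb.2.to_le hU)).trans Core.pCore_quotient_eq_bot.le)
    rintro N (rfl | rfl) <;> refine ⟨fun e => ?_, ?_⟩
    · have htop := comap_injective hπ (e.trans (comap_top π).symm)
      have hb := hnb _ (jh_le _) (normalizer_eq_top_iff.1 htop)
      exact zF_ne_bot Sb.2 hSb (eq_bot_iff.2 (hb ▸ center_le_jh _))
    · exact fun s hs => mem_normalizer_jh (le_normalizer (mem_map_of_mem π hs))
    · have htop := comap_injective hπ (e.trans (comap_top π).symm)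
      refine zF_ne_bot Sb.2 hSb (hnb _ inf_le_left ⟨fun z hz g => ?_⟩)
      have hg' := mem_centralizer_iff.1 (htop.ge (mem_top g)) z hz
      rwa [← hg', mul_inv_cancel_right]
    · exact fun s hs => le_centralizer_iff.1 inf_le_right (mem_map_of_mem π hs)
  obtain ⟨cb, hcb, hce⟩ := pair_fusion (h.of_surjective π hπ) Sb {π a} (π g) (mem_top _)
    (by rintro _ rfl; exact mem_map_of_mem π (hJS (hAJ ha)))
    (by
      rintro _ ⟨_, rfl, rfl⟩
      exact ⟨g * a * g⁻¹, hg, by simp only [map_mul, map_inv]; rfl⟩)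
  have lift : ∀ {cb : G ⧸ Q}, Control.Reach (pairSet (Sb : Subgroup (G ⧸ Q))) (Sb : Subgroup (G ⧸ Q))
      {π a} cb → ∃ y : G, π y = cb ∧ y * a * y⁻¹ ∈ A := by
    intro cb hcb
    induction hcb with
    | one => exact ⟨1, map_one π, by simpa using ha⟩
    | @step c' z N _ hN hz hzA ihc =>
      obtain ⟨y, rfl, hy⟩ := ihc
      obtain ⟨w, rfl⟩ := hπ z
      refine ⟨w * y, map_mul π w y, ?_⟩
      have hwS : w * (y * a * y⁻¹) * w⁻¹ ∈ (S : Subgroup G) :=
        hpre _ (hzA ⟨π a, rfl, by simp only [map_mul, map_inv, mul_inv_rev, mul_assoc]; rfl⟩)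
      have := hsubS _ (hprop N hN).1 (hprop N hN).2 _ hy w hz hwS
      rwa [show w * y * a * (w * y)⁻¹ = w * (y * a * y⁻¹) * w⁻¹ by group]
  obtain ⟨y, rfl, hy⟩ := lift hcb
  by_cases hyQ : y * a * y⁻¹ ∈ Q
  · refine step1 a ha ?_ g
    have := hQn.conj_mem _ hyQ y⁻¹
    rwa [show y⁻¹ * (y * a * y⁻¹) * y⁻¹⁻¹ = a by group] at this
  set a' := y * a * y⁻¹
  set d := g * y⁻¹
  set E := zpowers a' ⊔ Q
  have hb : g * a * g⁻¹ = d * a' * d⁻¹ := by simp only [a', d]; group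
  have hbE : d * a' * d⁻¹ ∈ E := by
    have h1 : (a')⁻¹ * (g * a * g⁻¹) ∈ Q := QuotientGroup.eq.1 (by
      have := hce (π a) rfl
      rwa [← map_inv, ← map_inv, ← map_mul, ← map_mul, ← map_mul, ← map_mul] at this)
    have := mul_mem (mem_sup_left (T := Q) (mem_zpowers a')) (mem_sup_right (S := zpowers a') h1)
    rwa [mul_inv_cancel_left, hb] at this
  set D := normalizer (E : Set G)
  have hES : E ≤ S := sup_le (zpowers_le.2 (hJS (hAJ hy))) hQS
  have hEne : ¬ E ≤ Q := fun hh => hyQ (hh (mem_sup_left (mem_zpowers a')))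
  have hDne : D ≠ ⊤ := fun e => by
    have : E.Normal := normalizer_eq_top_iff.1 e
    exact hEne (Core.le_pCore (S.2.to_le hES))
  have hdD : d ∈ D := by
    refine mem_normalizer_iff_map_conj_eq.2 (eq_of_le_of_card_ge ?_
      (card_map_of_injective (MulAut.conj d).injective).ge)
    rw [Subgroup.map_sup, MonoidHom.map_zpowers]
    exact sup_le (zpowers_le.2 hbE) ((map_conj_le_of_normal hQn d).trans le_sup_right)
  have hJD : J ≤ D := by
    intro j hj
    have hc : a' * j = j * a' := mem_centralizer_iff.1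
      (jh_le_centralizer_wJ _ (jS_le_jh _ hj)) a' (hAW hy)
    refine mem_normalizer_iff_map_conj_eq.2 (eq_of_le_of_card_ge ?_
      (card_map_of_injective (MulAut.conj j).injective).ge)
    rw [Subgroup.map_sup, MonoidHom.map_zpowers]
    refine sup_le (zpowers_le.2 ?_) ((map_conj_le_of_normal hQn j).trans le_sup_right)
    show j * a' * j⁻¹ ∈ E
    rw [← hc, mul_inv_cancel_right]
    exact mem_sup_left (mem_zpowers a')
  obtain ⟨T, hT, hJT⟩ := SylIn.exists_ge (p := 2) (H := D) (S.2.to_le hJS) hJD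
  have hET : E ≤ T := by
    refine le_sup_right.trans (hT.eq_of_le (P := T ⊔ E) ?_ (sup_le hT.le le_normalizer) le_sup_left).le
    exact hT.isPGroup.to_sup_of_normal_right' (S.2.to_le hES) hT.le
  obtain ⟨k, -, hk⟩ := (Control.sylIn_top S).exists_cjSub_le hT.isPGroup le_top
  have hkN : k ∈ normalizer (A : Set G) :=
    hNA (Control.mem_normalizer_of_cjSub_eq (cj_jS ((map_mono hJT).trans hk)))
  have hJk : J ≤ cjSub k T := (cj_jS ((map_mono hJT).trans hk)).ge.trans (map_mono hJT)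
  have hDk : cjSub k D ≠ ⊤ := fun e => hDne (eq_top_of_card_eq D (by
    rw [← Control.card_cjSub k D, e, Subgroup.card_top]))
  have hk1 : k * a' * k⁻¹ ∈ A := (mem_normalizer_iff.1 hkN a').1 hy
  have hk2 := hsub (cjSub k D) (cjSub k T) hDk (hT.cjSub k) hk hJk _ hk1 (k * d * k⁻¹) ⟨d, hdD, rfl⟩
    (by
      rw [show k * d * k⁻¹ * (k * a' * k⁻¹) * (k * d * k⁻¹)⁻¹ = k * (d * a' * d⁻¹) * k⁻¹ by group]
      exact hk ⟨_, hET hbE, rfl⟩)
  rw [hb]
  refine (mem_normalizer_iff.1 hkN _).2 ?_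
  rwa [show k * d * k⁻¹ * (k * a' * k⁻¹) * (k * d * k⁻¹)⁻¹ = k * (d * a' * d⁻¹) * k⁻¹ by group] at hk2

theorem closed {G : Type u} [Group G] [Finite G] (h : SecHyp G) (S : Sylow 2 G) (A : Subgroup G)
    (hAW : A ≤ wJ (S : Subgroup G)) (hNA : normalizer (jS (S : Subgroup G) : Set G) ≤ normalizer (A : Set G)) :
    ∀ a ∈ A, ∀ g : G, g * a * g⁻¹ ∈ (S : Subgroup G) → g * a * g⁻¹ ∈ A :=
  closed_aux _ G rfl h S A hAW hNA

end Cfsg.Agent.S4Comp
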