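import Cfsg.Agent.S4Comp.EGroup
import Cfsg.Agent.S4Comp.Solv
import Cfsg.Agent.S3Free.Struct
import Cfsg.Agent.S3Free.FF
import Cfsg.Agent.LocalStructure.CharP
import Mathlib.GroupTheory.SemidirectProduct

/-!
# The standing hypothesis and the bound for an action on a normal subgroup
-/

set_option autoImplicit false

namespace Cfsg.Agent.S4Comp

open Subgroup
open Cfsg.Agent.SfFree (Mem jS le_jS cj ea_commute ea_sq)
open Cfsg.Agent.S3Free (CompK)
open scoped commutatorElement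

universe u

variable {G : Type u} [Group G] [Finite G]

/-- The standing hypothesis. -/
structure Hyp (G : Type u) [Group G] : Prop where
  char2 : centralizer (Cfsg.pCore 2 G : Set G) ≤ Cfsg.pCore 2 G
  free : ¬ Cfsg.Involves (Equiv.Perm (Fin 4)) G
  comp : CompK G

theorem Hyp.noS3 (h : Hyp G) : ¬ Cfsg.Involves (Equiv.Perm (Fin 3)) (G ⧸ Cfsg.pCore 2 G) := by
  intro hS
  refine h.free (S2759.result.mpr ⟨Cfsg.pCore 2 G, Core.pCore_isPGroup, ?_⟩)
  set N := normalizer (Cfsg.pCore 2 G : Set G)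
  refine QdFree.involves_of_surjective hS
    (f := QuotientGroup.lift _ ((QuotientGroup.mk' (Cfsg.pCore 2 G)).comp N.subtype) ?_) ?_
  · intro z hz
    exact (QuotientGroup.eq_one_iff _).2 (h.char2 hz)
  · intro q
    obtain ⟨z, rfl⟩ := QuotientGroup.mk'_surjective (Cfsg.pCore 2 G) q
    exact ⟨QuotientGroup.mk ⟨z, by show z ∈ N; rw [show N = ⊤ from normalizer_eq_top _]; exact mem_top z⟩, rfl⟩

theorem Hyp.sub (h : Hyp G) {M : Subgroup G} (hQ : Cfsg.pCore 2 G ≤ M) (hc : CompK M) : Hyp M := by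
  refine ⟨fun x hx => ?_, fun hh => h.free (QdFree.involves_of_subgroup hh), hc⟩
  have hle : (Cfsg.pCore 2 G).subgroupOf M ≤ Cfsg.pCore 2 M :=
    Core.le_pCore Core.pCore_isPGroup.comap_subtype
  refine hle (mem_subgroupOf.2 (h.char2 (mem_centralizer_iff.2 fun q hq => ?_)))
  exact congrArg Subtype.val (mem_centralizer_iff.1 hx ⟨q, hQ hq⟩ (hle hq))

theorem Hyp.normal (h : Hyp G) {C : Subgroup G} (hC : C.Normal) : Hyp C := by
  have := Fact.mk Nat.prime_two
  exact ⟨LocalStructure.charP_iff.1 (LocalStructure.charP_of_subnormal hC.isSubnormal h.char2),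
    fun hh => h.free (QdFree.involves_of_subgroup hh), h.comp.of_subnormal hC.isSubnormal⟩

/-- The bound for an action on a normal elementary abelian 2-subgroup. -/
theorem sq_bound_action {M : Subgroup G} [hMn : M.Normal] (hM : Cfsg.IsElementaryAbelian 2 M)
    (hO : Cfsg.pCore 2 (G ⧸ centralizer (M : Set G)) = ⊥)
    (h3 : ¬ Cfsg.Involves (Equiv.Perm (Fin 3)) (G ⧸ centralizer (M : Set G)))
    (hc : CompK (G ⧸ centralizer (M : Set G))) {R : Subgroup G} (hR : EaMod M R) :
    Nat.card R ^ 2 * Nat.card (M ⊓ centralizer (R : Set G) : Subgroup G) ≤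
        Nat.card M * Nat.card (R ⊓ centralizer (M : Set G) : Subgroup G) ^ 2 ∧
      Nat.card R ^ 2 ≤ Nat.card (⁅M, R⁆ : Subgroup G) *
        Nat.card (R ⊓ centralizer (M : Set G) : Subgroup G) ^ 2 := by
  set C := centralizer (M : Set G)
  let cn : G →* MulAut M := MulAut.conjNormal
  have hker : C ≤ cn.ker := fun g hg => MonoidHom.mem_ker.2 (MulEquiv.ext fun m => Subtype.ext (by
    show g * (m : G) * g⁻¹ = m
    exact mul_inv_eq_iff_eq_mul.2 (mem_centralizer_iff.1 hg m m.2).symm))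
  let φ : G ⧸ C →* MulAut M := QuotientGroup.lift C cn hker
  let inM : M →* M ⋊[φ] (G ⧸ C) := SemidirectProduct.inl
  let inQ : G ⧸ C →* M ⋊[φ] (G ⧸ C) := SemidirectProduct.inr
  have : Finite (M ⋊[φ] (G ⧸ C)) := Finite.of_equiv _ SemidirectProduct.equivProd.symm
  have hact : ∀ (g : G) (m : M), inQ (QuotientGroup.mk g) * inM m * (inQ (QuotientGroup.mk g))⁻¹ =
      inM ⟨g * m * g⁻¹, hMn.conj_mem _ m.2 g⟩ := fun g m => by
    rw [← map_inv]
    exact (SemidirectProduct.inl_aut (φ := φ) (QuotientGroup.mk g) m).symm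
  set M' := (⊤ : Subgroup M).map inM
  set Q' := (⊤ : Subgroup (G ⧸ C)).map inQ
  have hinM : Function.Injective inM := SemidirectProduct.inl_injective
  have hinQ : Function.Injective inQ := SemidirectProduct.inr_injective
  have hMtop : Cfsg.IsElementaryAbelian 2 (⊤ : Subgroup M) :=
    (Thompson.ea_map_iff M.subtype_injective).1 (by rwa [← MonoidHom.range_eq_map, range_subtype])
  have hN : Q' ≤ normalizer (M' : Set (M ⋊[φ] (G ⧸ C))) := by
    rintro _ ⟨q, -, rfl⟩
    refine QdFree.ZJControl.mem_normalizer_of_conj ?_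
    rintro _ ⟨m, -, rfl⟩
    obtain ⟨g, rfl⟩ := QuotientGroup.mk_surjective q
    exact ⟨_, trivial, (hact g m).symm⟩
  have hf : Q' ⊓ centralizer (M' : Set (M ⋊[φ] (G ⧸ C))) = ⊥ := by
    refine eq_bot_iff.2 ?_
    rintro _ ⟨⟨q, -, rfl⟩, hq⟩
    obtain ⟨g, rfl⟩ := QuotientGroup.mk_surjective q
    rw [mem_bot, show (QuotientGroup.mk g : G ⧸ C) = 1 from (QuotientGroup.eq_one_iff g).2 ?_, map_one]
    refine mem_centralizer_iff.2 fun m hm => ?_
    have h1 := mem_centralizer_iff.1 hq (inM ⟨m, hm⟩) (mem_map_of_mem _ (mem_top _))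
    have h2 := hact g ⟨m, hm⟩
    rw [← h1, mul_inv_cancel_right] at h2
    exact (mul_inv_eq_iff_eq_mul.1 (congrArg Subtype.val (hinM h2)).symm).symm
  set Rb := R.map (QuotientGroup.mk' C)
  have hRb : Cfsg.IsElementaryAbelian 2 Rb := by
    refine Thompson.ea_iff.2 ⟨?_, ?_⟩
    · rintro _ ⟨r, hr, rfl⟩
      refine mem_centralizer_iff.2 ?_
      rintro _ ⟨s, hs, rfl⟩
      refine commutatorElement_eq_one_iff_commute.1 ?_
      rw [← map_commutatorElement]
      exact (QuotientGroup.eq_one_iff _).2 (hR.2 s hs r hr)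
    · rintro _ ⟨r, hr, rfl⟩
      rw [← map_pow, pow_two]
      exact (QuotientGroup.eq_one_iff _).2 (hR.1 r hr)
  obtain ⟨b1, b2⟩ := S3Free.sq_bound (Thompson.ea_map hMtop inM) hN hf (fun B hBQ hB hB1 => by
    have hB' : (B.comap inQ).map inQ = B := map_comap_eq_self (hBQ.trans (map_le_range inQ ⊤))
    have hp := (S3Free.exists_pack hO h3 hc (B.comap inQ)
      ((Thompson.ea_map_iff hinQ).1 (hB'.symm ▸ hB))
      (fun h => hB1 (by rw [← hB', h, Subgroup.map_bot]))).map hinQ (P' := fun x => x ≠ 1)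
      fun x hx h => hx (hinQ (h.trans (map_one inQ).symm))
    rwa [hB'] at hp) (Rb.map inQ) (map_mono le_top) (Thompson.ea_map hRb inQ)
  -- translate
  have hcardR : Nat.card Rb * Nat.card (R ⊓ C : Subgroup G) = Nat.card R := by
    let π := (QuotientGroup.mk' C).comp R.subtype
    have h1 := π.ker.card_eq_card_quotient_mul_card_subgroup
    rw [Nat.card_congr (QuotientGroup.quotientKerEquivRange π).toEquiv,
      show π.range = Rb from by rw [MonoidHom.range_comp, range_subtype],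
      show π.ker = C.subgroupOf R from by rw [← MonoidHom.comap_ker, QuotientGroup.ker_mk']; rfl] at h1
    rw [h1, ← inf_subgroupOf_left C R, Nat.card_congr (subgroupOfEquivOfLe inf_le_left).toEquiv]
  have hfixeq : M' ⊓ centralizer (Rb.map inQ : Set (M ⋊[φ] (G ⧸ C))) =
      ((M ⊓ centralizer (R : Set G)).subgroupOf M).map inM := by
    refine le_antisymm ?_ ?_
    · rintro _ ⟨⟨m, -, rfl⟩, hm⟩
      refine mem_map_of_mem inM (mem_inf.2 ⟨m.2, mem_centralizer_iff.2 fun r hr => ?_⟩)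
      have h1 := mem_centralizer_iff.1 hm _ (mem_map_of_mem inQ (mem_map_of_mem (QuotientGroup.mk' C) hr))
      have h2 := hact r m
      rw [show inQ (QuotientGroup.mk r) * inM m = inM m * inQ (QuotientGroup.mk r) from h1,
        mul_inv_cancel_right] at h2
      exact mul_inv_eq_iff_eq_mul.1 (congrArg Subtype.val (hinM h2)).symm
    · rintro _ ⟨m, hm, rfl⟩
      refine ⟨mem_map_of_mem inM (mem_top m), mem_centralizer_iff.2 ?_⟩
      rintro _ ⟨_, ⟨r, hr, rfl⟩, rfl⟩
      refine mul_inv_eq_iff_eq_mul.1 ?_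
      rw [show (QuotientGroup.mk' C) r = QuotientGroup.mk r from rfl, hact]
      exact congrArg inM (Subtype.ext (mul_inv_eq_iff_eq_mul.2 (mem_centralizer_iff.1 hm.2 r hr)))
  have hfix : Nat.card (M' ⊓ centralizer (Rb.map inQ : Set (M ⋊[φ] (G ⧸ C))) :
      Subgroup (M ⋊[φ] (G ⧸ C))) = Nat.card (M ⊓ centralizer (R : Set G) : Subgroup G) := by
    rw [hfixeq, card_map_of_injective hinM, Nat.card_congr (subgroupOfEquivOfLe inf_le_left).toEquiv]
  have hRM : ⁅M, R⁆ ≤ M := commutator_le_left M R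
  have hcomm : Nat.card (⁅M', Rb.map inQ⁆ : Subgroup (M ⋊[φ] (G ⧸ C))) ≤
      Nat.card (⁅M, R⁆ : Subgroup G) := by
    have hle : ⁅M', Rb.map inQ⁆ ≤ ((⁅M, R⁆).subgroupOf M).map inM := by
      rw [commutator_le]
      rintro _ ⟨m, -, rfl⟩ _ ⟨_, ⟨r, hr, rfl⟩, rfl⟩
      refine ⟨⟨⁅(m : G), r⁆, hRM (commutator_mem_commutator m.2 hr)⟩,
        commutator_mem_commutator m.2 hr, ?_⟩
      have hm' : r * (m : G)⁻¹ * r⁻¹ ∈ M := hMn.conj_mem _ (inv_mem m.2) r
      rw [show (⟨⁅(m : G), r⁆, hRM (commutator_mem_commutator m.2 hr)⟩ : M) = m * ⟨_, hm'⟩ from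
        Subtype.ext (by show ⁅(m : G), r⁆ = (m : G) * (r * (m : G)⁻¹ * r⁻¹); rw [commutatorElement_def]; group),
        map_mul, commutatorElement_def, show (⟨_, hm'⟩ : M) = ⟨r * ((m⁻¹ : M) : G) * r⁻¹, _⟩ from rfl,
        ← hact r m⁻¹, map_inv inM]
      simp [mul_assoc]
    refine (card_le_of_le hle).trans (le_of_eq ?_)
    rw [card_map_of_injective hinM, Nat.card_congr (subgroupOfEquivOfLe hRM).toEquiv]
  have hRcard : Nat.card (Rb.map inQ) = Nat.card Rb := card_map_of_injective hinQ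
  rw [hRcard, hfix] at b1
  rw [hRcard] at b2
  rw [show Nat.card M' = Nat.card M by rw [card_map_of_injective hinM, Subgroup.card_top]] at b1
  refine ⟨?_, ?_⟩
  · rw [← hcardR, mul_pow, mul_right_comm]
    exact Nat.mul_le_mul_right _ b1
  · rw [← hcardR, mul_pow]
    exact Nat.mul_le_mul_right _ (b2.trans hcomm)

/-- The reduced case: everything relevant centralises `M`. -/
theorem reduced (h : Hyp G) (S : Sylow 2 G) {M : Subgroup G} [hMn : M.Normal]
    (hM : Cfsg.IsElementaryAbelian 2 M) (hO : Cfsg.pCore 2 (G ⧸ centralizer (M : Set G)) = ⊥) :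
    jh (S : Subgroup G) ≤ centralizer (M : Set G) := by
  have := Fact.mk Nat.prime_two
  set C := centralizer (M : Set G)
  have hQC : Cfsg.pCore 2 G ≤ C := fun q hq => (QuotientGroup.eq_one_iff q).1 (mem_bot.1 (hO ▸
    Core.map_pCore_le_of_surjective (QuotientGroup.mk'_surjective C) (mem_map_of_mem _ hq)))
  have hMQ : M ≤ Cfsg.pCore 2 G := Core.le_pCore (Thompson.ea_isPGroup hM)
  have hMS : M ≤ S := hMQ.trans (Core.pCore_le_sylow S)
  have h3 : ¬ Cfsg.Involves (Equiv.Perm (Fin 3)) (G ⧸ C) := fun hh => by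
    let f : G ⧸ Cfsg.pCore 2 G →* G ⧸ C :=
      QuotientGroup.map (Cfsg.pCore 2 G) C (MonoidHom.id G) hQC
    refine h.noS3 (QdFree.involves_of_surjective hh (f := f) fun y => ?_)
    obtain ⟨x, rfl⟩ := QuotientGroup.mk_surjective y
    exact ⟨x, rfl⟩
  have hb := fun R hR => sq_bound_action hM hO h3 (h.comp.of_surjective _ (QuotientGroup.mk'_surjective C))
    (R := R) hR
  have hpos : ∀ R : Subgroup G, EaMod M R → ¬ R ≤ C → Ineq M R ∧ Ineq' M R := by
    intro R hR hn
    obtain ⟨b1, b2⟩ := hb R hR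
    unfold Ineq Ineq'
    set a := Nat.card R
    set a0 := Nat.card (R ⊓ C : Subgroup G)
    set m0 := Nat.card (M ⊓ centralizer (R : Set G) : Subgroup G)
    have hlt : a0 < a := by
      refine lt_of_le_of_ne (card_le_of_le inf_le_left) fun e => hn ?_
      exact inf_eq_left.1 (eq_of_le_of_card_ge inf_le_left e.ge)
    have ha0 : 0 < a0 := Nat.card_pos
    have hm0 : 0 < m0 := Nat.card_pos
    constructor
    · have h1 : (a ^ 2 * m0) * (a ^ 2 * m0) ≤ (Nat.card M * a0 ^ 2) * (Nat.card M * a0 ^ 2) :=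
        Nat.mul_le_mul b1 b1
      refine Nat.lt_of_mul_lt_mul_right (a := a0) ?_
      calc a ^ 3 * m0 ^ 2 * a0 < a ^ 3 * m0 ^ 2 * a := Nat.mul_lt_mul_of_pos_left hlt (Nat.mul_pos (pow_pos (by omega) 3) (pow_pos hm0 2))
        _ = (a ^ 2 * m0) * (a ^ 2 * m0) := by ring
        _ ≤ _ := h1
        _ = _ := by ring
    · refine Nat.lt_of_mul_lt_mul_right (a := a0) ?_
      calc a * a0 < a * a := Nat.mul_lt_mul_of_pos_left hlt (by omega)
        _ = a ^ 2 := by ring
        _ ≤ _ := b2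
        _ = _ := by ring
  have hJ : ∀ A, Mem (S : Subgroup G) A → A ≤ C := fun A hA =>
    mem_le_centralizer hMS hM hA fun hn => (hpos A (eaMod_of_ea hA.2.1) hn).1
  obtain ⟨A, hA⟩ := SfFree.exists_mem (S : Subgroup G)
  have hMA : M ≤ A := hA.le_of_centralizer hMS hM (le_centralizer_iff.1 (hJ A hA))
  refine iSup₂_le fun U hU => ?_
  exact hU.2.1 M ((hMA.trans (le_jS hA)).trans hU.2.2) (by rw [normalizer_eq_top_iff.2 hMn]; exact le_top) hM
    fun R _ hR hn => hpos R hR hn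

end Cfsg.Agent.S4Comp
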