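import Cfsg.Agent.S4Comp.EGroup
import Cfsg.Agent.Core.PCore

/-!
# The normal closure of a module without offenders
-/

set_option autoImplicit false

namespace Cfsg.Agent.S4Comp

open Subgroup
open Cfsg.Agent.SfFree (Mem jS le_jS cj mem_cj cj_cj ea_commute ea_sq)
open scoped commutatorElement

variable {G : Type*} [Group G] [Finite G]

/-- A strong module inside a normal subgroup `Q ≤ T`. -/
structure Mod (Q T V : Subgroup G) : Prop where
  normQ : Q.Normal
  le_T : Q ≤ T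
  le_Q : V ≤ Q
  ea : Cfsg.IsElementaryAbelian 2 V
  strong : Strong T V

omit [Finite G] in
theorem cj_eq_map (g : G) (H : Subgroup G) : cj g H = H.map (MulAut.conj g).toMonoidHom := rfl

omit [Finite G] in
theorem cj_le_of_normal {Q H : Subgroup G} (hQ : Q.Normal) (h : H ≤ Q) (g : G) : cj g H ≤ Q := by
  rintro _ ⟨x, hx, rfl⟩
  exact hQ.conj_mem x (h hx) g

/-- Conjugates commute. -/
theorem Mod.cj_commute {Q T V : Subgroup G} (m : Mod Q T V) (g : G) :
    cj g V ≤ centralizer (V : Set G) := by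
  have := m.normQ
  by_contra hn
  set R := cj g V
  have hR : Cfsg.IsElementaryAbelian 2 R := SfFree.ea_cj m.ea
  have h1 := (m.strong R ((cj_le_of_normal m.normQ m.le_Q g).trans m.le_T) (eaMod_of_ea hR) hn).1
  set R' := cj g⁻¹ V
  have hn' : ¬ R' ≤ centralizer (V : Set G) := fun h => hn (by
    have h' := SfFree.cj_mono (g := g) h
    rw [cj_cj, mul_inv_cancel, SfFree.cj_one, SfFree.cj_centralizer] at h'
    exact le_centralizer_iff.1 h')
  have h2 := (m.strong R' ((cj_le_of_normal m.normQ m.le_Q g⁻¹).trans m.le_T)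
    (eaMod_of_ea (SfFree.ea_cj m.ea)) hn').1
  -- transport the second inequality
  have e1 : cj g (V ⊓ centralizer (R' : Set G)) = R ⊓ centralizer (V : Set G) := by
    rw [SfFree.cj_inf, SfFree.cj_centralizer, cj_cj, mul_inv_cancel, SfFree.cj_one]
  have e2 : cj g (R' ⊓ centralizer (V : Set G)) = V ⊓ centralizer (R : Set G) := by
    rw [SfFree.cj_inf, SfFree.cj_centralizer, cj_cj, mul_inv_cancel, SfFree.cj_one]
  unfold Ineq at h1 h2
  rw [← SfFree.card_cj g (V ⊓ centralizer (R' : Set G)), e1,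
    ← SfFree.card_cj g (R' ⊓ centralizer (V : Set G)), e2, SfFree.card_cj] at h2
  rw [SfFree.card_cj] at h1
  set n := Nat.card V
  set a := Nat.card (V ⊓ centralizer (R : Set G) : Subgroup G)
  set b := Nat.card (R ⊓ centralizer (V : Set G) : Subgroup G)
  have ha : a ≤ n := card_le_of_le inf_le_left
  have hb : b ≤ n := by
    rw [show n = Nat.card R from (SfFree.card_cj g V).symm]
    exact card_le_of_le inf_le_left
  have := Nat.mul_lt_mul'' h1 h2
  have hab : a * b ≤ n * n := Nat.mul_le_mul ha hb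
  have h5 : n ^ 4 * a ^ 2 * b ^ 2 * (n * n) < n ^ 4 * a ^ 2 * b ^ 2 * (a * b) := by
    calc _ = n ^ 3 * a ^ 2 * (n ^ 3 * b ^ 2) := by ring
      _ < n ^ 2 * b ^ 3 * (n ^ 2 * a ^ 3) := this
      _ = _ := by ring
  exact absurd (Nat.lt_of_mul_lt_mul_left h5) (not_lt.2 hab)

theorem Mod.cj_cj_commute {Q T V : Subgroup G} (m : Mod Q T V) (g h : G) :
    cj g V ≤ centralizer (cj h V : Set G) := by
  rw [show g = h * (h⁻¹ * g) by group, ← cj_cj, ← SfFree.cj_centralizer]
  exact SfFree.cj_mono (m.cj_commute _)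

/-- The weak form of the inequality. -/
def ChainP (Q U : Subgroup G) : Prop :=
  ∀ R ≤ Q, EaMod U R →
    Nat.card R ^ 3 * Nat.card (U ⊓ centralizer (R : Set G) : Subgroup G) ^ 2 ≤
      Nat.card U ^ 2 * Nat.card (R ⊓ centralizer (U : Set G) : Subgroup G) ^ 3 ∧
    (¬ R ≤ centralizer (U : Set G) → Ineq U R)

omit [Finite G] in
theorem chainP_of_trivial {U R : Subgroup G} (h : R ≤ centralizer (U : Set G)) :
    Nat.card R ^ 3 * Nat.card (U ⊓ centralizer (R : Set G) : Subgroup G) ^ 2 ≤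
      Nat.card U ^ 2 * Nat.card (R ⊓ centralizer (U : Set G) : Subgroup G) ^ 3 := by
  rw [inf_eq_left.2 h, inf_eq_left.2 (le_centralizer_iff.1 h), mul_comm]

theorem Mod.chainP_cj {Q T V : Subgroup G} (m : Mod Q T V) (g : G) : ChainP Q (cj g V) := by
  have := m.normQ
  intro R hR he
  set R' := cj g⁻¹ R
  have hR' : cj g R' = R := by rw [cj_cj, mul_inv_cancel, SfFree.cj_one]
  by_cases hc : R ≤ centralizer (cj g V : Set G)
  · exact ⟨chainP_of_trivial hc, fun h => absurd hc h⟩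
  have hinj : Function.Injective (MulAut.conj g).toMonoidHom := (MulAut.conj g).injective
  have hI : Ineq (cj g V) R := by
    rw [← hR'] at he hc ⊢
    simp only [cj_eq_map g] at he hc ⊢
    rw [(ineq_map hinj).1]
    exact (m.strong R' ((cj_le_of_normal m.normQ hR g⁻¹).trans m.le_T) ((eaMod_map hinj).1 he)
      fun h => hc ((map_le_centralizer_iff hinj).2 h)).1
  exact ⟨hI.le, fun _ => hI⟩

theorem chainP_sup {Q U₁ U₂ : Subgroup G} (h1 : ChainP Q U₁) (h2 : ChainP Q U₂)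
    (hc : U₁ ≤ centralizer (U₂ : Set G)) : ChainP Q (U₁ ⊔ U₂ : Subgroup G) := by
  intro R hR he
  by_cases hcR : R ≤ centralizer ((U₁ ⊔ U₂ : Subgroup G) : Set G)
  · exact ⟨chainP_of_trivial hcR, fun h => absurd hcR h⟩
  set R₁ := R ⊓ centralizer (U₁ : Set G)
  obtain ⟨w1, s1⟩ := h1 R hR (eaMod_mono he le_sup_left le_rfl)
  obtain ⟨w2, s2⟩ := h2 R₁ (inf_le_left.trans hR) (eaMod_mono he le_sup_right inf_le_left)
  have hR12 : R₁ ⊓ centralizer (U₂ : Set G) = R ⊓ centralizer ((U₁ ⊔ U₂ : Subgroup G) : Set G) := by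
    refine le_antisymm (fun z hz => ⟨hz.1.1, ?_⟩) (fun z hz =>
      ⟨⟨hz.1, centralizer_le (le_sup_left : U₁ ≤ _) hz.2⟩, centralizer_le (le_sup_right : U₂ ≤ _) hz.2⟩)
    refine le_centralizer_iff.1 (sup_le (le_centralizer_iff.1 (zpowers_le.2 hz.1.2))
      (le_centralizer_iff.1 (zpowers_le.2 hz.2)) : U₁ ⊔ U₂ ≤ centralizer (zpowers z : Set G)) (mem_zpowers z)
  rw [hR12] at w2
  unfold Ineq at s2
  rw [hR12] at s2
  -- the fixed points
  set U := U₁ ⊔ U₂
  set F := U ⊓ centralizer (R : Set G)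
  set F₁ := U₁ ⊓ centralizer (R : Set G)
  set F₂ := U₂ ⊓ centralizer (R₁ : Set G)
  have hU : Nat.card U * Nat.card (U₁ ⊓ U₂ : Subgroup G) = Nat.card U₁ * Nat.card U₂ :=
    Thompson.card_sup_mul_card_inf_of_comm hc
  have hkey : Nat.card F * (Nat.card U₁ * Nat.card U₂) ≤ Nat.card U * (Nat.card F₁ * Nat.card F₂) := by
    have hU1R : U₁ ≤ centralizer (R₁ : Set G) := le_centralizer_iff.1 inf_le_right
    have hnorm : ∀ {X : Subgroup G}, X ≤ U → X ≤ normalizer (U₁ : Set G) := fun hX =>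
      hX.trans (sup_le le_normalizer ((le_centralizer_iff.1 hc).trans (centralizer_le_normalizer _)))
    have hsup : F ⊔ U₁ ≤ U₁ ⊔ F₂ := by
      refine sup_le (fun z hz => ?_) le_sup_left
      have hz1 : z ∈ U := hz.1
      obtain ⟨u, hu, v, hv, rfl⟩ :=
        (Coprime.mem_sup_of_le_normalizer (hnorm (le_sup_right : U₂ ≤ U))).1 hz1
      refine mul_mem (mem_sup_left hu) (mem_sup_right ⟨hv, ?_⟩)
      have := mul_mem (inv_mem (hU1R hu)) (centralizer_le (inf_le_left : R₁ ≤ R) hz.2)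
      rwa [inv_mul_cancel_left] at this
    have e1 := Thompson.card_sup_mul_card_inf_of_comm
      (X := U₁) (Y := F₂) (hc.trans (centralizer_le inf_le_left))
    have hFle : F ≤ U := inf_le_left
    have e2 : Nat.card F * Nat.card U₁ ≤ Nat.card (F ⊔ U₁ : Subgroup G) * Nat.card F₁ :=
      (SfFree.card_mul_card_le F U₁).trans (Nat.mul_le_mul_left _ (card_le_of_le fun z hz => ⟨hz.2, hz.1.2⟩))
    have e3 : Nat.card (U₁ ⊓ F₂ : Subgroup G) = Nat.card (U₁ ⊓ U₂ : Subgroup G) := by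
      refine congrArg (fun X : Subgroup G => Nat.card X) (le_antisymm (inf_le_inf_left _ inf_le_left) ?_)
      exact le_inf inf_le_left (le_inf inf_le_right (inf_le_left.trans hU1R))
    refine Nat.le_of_mul_le_mul_right ?_ (Nat.card_pos (α := (U₁ ⊓ U₂ : Subgroup G)))
    calc Nat.card F * (Nat.card U₁ * Nat.card U₂) * Nat.card (U₁ ⊓ U₂ : Subgroup G)
        = (Nat.card F * Nat.card U₁) * Nat.card U₂ * Nat.card (U₁ ⊓ U₂ : Subgroup G) := by ring
      _ ≤ (Nat.card (U₁ ⊔ F₂ : Subgroup G) * Nat.card F₁) * Nat.card U₂ *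
          Nat.card (U₁ ⊓ U₂ : Subgroup G) :=
        Nat.mul_le_mul_right _ (Nat.mul_le_mul_right _ (e2.trans
          (Nat.mul_le_mul_right _ (card_le_of_le hsup))))
      _ = (Nat.card (U₁ ⊔ F₂ : Subgroup G) * Nat.card (U₁ ⊓ F₂ : Subgroup G)) * Nat.card F₁ *
          Nat.card U₂ := by rw [e3]; ring
      _ = (Nat.card U₁ * Nat.card U₂) * (Nat.card F₁ * Nat.card F₂) := by rw [e1]; ring
      _ = _ := by rw [← hU]; ring
  have hsq := Nat.mul_le_mul hkey hkey
  set a := Nat.card R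
  set a1 := Nat.card R₁
  set a12 := Nat.card (R ⊓ centralizer (U : Set G) : Subgroup G)
  set f := Nat.card F
  set f1 := Nat.card F₁
  set f2 := Nat.card F₂
  set u := Nat.card U
  set u1 := Nat.card U₁
  set u2 := Nat.card U₂
  have hf1 : 0 < f1 := Nat.card_pos
  have hf2 : 0 < f2 := Nat.card_pos
  have ha1 : 0 < a1 := Nat.card_pos
  have ha12 : 0 < a12 := Nat.card_pos
  have hu1 : 0 < u1 := Nat.card_pos
  have hu2 : 0 < u2 := Nat.card_pos
  -- combine
  have hprod : a ^ 3 * f1 ^ 2 * (a1 ^ 3 * f2 ^ 2) < u1 ^ 2 * a1 ^ 3 * (u2 ^ 2 * a12 ^ 3) := by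
    by_cases hR1 : R ≤ centralizer (U₁ : Set G)
    · have hn2 : ¬ R₁ ≤ centralizer (U₂ : Set G) := fun h =>
        hcR (inf_eq_left.1 (le_antisymm inf_le_left
          (hR12 ▸ (le_inf (le_inf le_rfl hR1) ((show R = R₁ from (inf_eq_left.2 hR1).symm).le.trans h)))))
      have hs := s2 hn2
      calc a ^ 3 * f1 ^ 2 * (a1 ^ 3 * f2 ^ 2)
          ≤ (u1 ^ 2 * a1 ^ 3) * (a1 ^ 3 * f2 ^ 2) := Nat.mul_le_mul_right _ w1
        _ < _ := Nat.mul_lt_mul_of_pos_left hs (by positivity)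
    · calc a ^ 3 * f1 ^ 2 * (a1 ^ 3 * f2 ^ 2)
          < (u1 ^ 2 * a1 ^ 3) * (a1 ^ 3 * f2 ^ 2) := Nat.mul_lt_mul_of_pos_right (s1 hR1) (by positivity)
        _ ≤ _ := Nat.mul_le_mul_left _ w2
  have hfinal : Ineq U R := by
    unfold Ineq
    refine Nat.lt_of_mul_lt_mul_right (a := a1 ^ 3 * (u1 ^ 2 * u2 ^ 2)) ?_
    calc a ^ 3 * f ^ 2 * (a1 ^ 3 * (u1 ^ 2 * u2 ^ 2))
        = a ^ 3 * a1 ^ 3 * ((f * (u1 * u2)) * (f * (u1 * u2))) := by ring
      _ ≤ a ^ 3 * a1 ^ 3 * ((u * (f1 * f2)) * (u * (f1 * f2))) := Nat.mul_le_mul_left _ hsq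
      _ = u ^ 2 * (a ^ 3 * f1 ^ 2 * (a1 ^ 3 * f2 ^ 2)) := by ring
      _ < u ^ 2 * (u1 ^ 2 * a1 ^ 3 * (u2 ^ 2 * a12 ^ 3)) :=
        Nat.mul_lt_mul_of_pos_left hprod (pow_pos Nat.card_pos 2)
      _ = _ := by ring
  exact ⟨hfinal.le, fun _ => hfinal⟩

/-- The normal closure. -/
def clos (V : Subgroup G) : Subgroup G := ⨆ g : G, cj g V

omit [Finite G] in
theorem le_clos (V : Subgroup G) : V ≤ clos V :=
  le_trans (SfFree.cj_one V).ge (le_iSup (fun g => cj g V) 1)

omit [Finite G] in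
theorem clos_normal (V : Subgroup G) : (clos V).Normal :=
  normalizer_eq_top_iff.1 (eq_top_iff.2 fun h _ => mem_normalizer_iff_map_conj_eq.2 (le_antisymm (by
    rw [clos, Subgroup.map_iSup]
    exact iSup_le fun g => by
      show cj h (cj g V) ≤ _
      rw [cj_cj]
      exact le_iSup (fun g => cj g V) (h * g)) (by
    rw [clos, Subgroup.map_iSup]
    refine iSup_le fun g => le_trans ?_ (le_iSup _ (h⁻¹ * g))
    show _ ≤ cj h (cj (h⁻¹ * g) V)
    rw [cj_cj, mul_inv_cancel_left])))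

theorem Mod.clos_facts {Q T V : Subgroup G} (m : Mod Q T V) :
    clos V ≤ Q ∧ Cfsg.IsElementaryAbelian 2 (clos V) ∧ ChainP Q (clos V) := by
  classical
  have hle : clos V ≤ Q := iSup_le fun g => cj_le_of_normal m.normQ m.le_Q g
  have hea : Cfsg.IsElementaryAbelian 2 (clos V) := by
    rw [clos, Subgroup.iSup_eq_closure]
    refine Thompson.ea_closure (fun x hx => mem_centralizer_iff.2 fun y hy => ?_) fun x hx => ?_
    · obtain ⟨i, hi⟩ := Set.mem_iUnion.1 hx
      obtain ⟨j, hj⟩ := Set.mem_iUnion.1 hy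
      exact mem_centralizer_iff.1 (m.cj_cj_commute i j hi) y hj
    · obtain ⟨i, hi⟩ := Set.mem_iUnion.1 hx
      exact (SfFree.ea_cj m.ea).2 x hi
  refine ⟨hle, hea, ?_⟩
  let _ : Fintype G := Fintype.ofFinite G
  have key : ∀ s : Finset G, ChainP Q (s.sup fun g => cj g V) := by
    intro s
    induction s using Finset.induction with
    | empty =>
      rw [Finset.sup_empty]
      intro R _ _
      have hb : R ≤ centralizer ((⊥ : Subgroup G) : Set G) := fun r _ =>
        mem_centralizer_iff.2 fun z hz => by rw [mem_bot.1 hz, one_mul, mul_one]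
      exact ⟨chainP_of_trivial hb, fun h => absurd hb h⟩
    | @insert a s _ ih =>
      rw [Finset.sup_insert]
      refine chainP_sup (m.chainP_cj a) ih (le_centralizer_iff.1 (Finset.sup_le fun b _ => ?_))
      exact m.cj_cj_commute b a
  have e : clos V = Finset.univ.sup fun g => cj g V := by
    rw [clos, Finset.sup_univ_eq_iSup]
  rw [e]
  exact key _

end Cfsg.Agent.S4Comp
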