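import Cfsg.Agent.S4Comp.Section
import Cfsg.Agent.S4Comp.Chain

/-!
# The centralizer of the normal closure contains the largest elementary abelian subgroups
-/

set_option autoImplicit false

namespace Cfsg.Agent.S4Comp

open Subgroup
open Cfsg.Agent.SfFree (Mem cj cj_cj ea_commute ea_sq)
open scoped commutatorElement

universe u

variable {G : Type u} [Group G]

/-- The part of `W` moved by the odd elements. -/
def oddComm (W : Subgroup G) : Subgroup G :=
  ⨆ (x : G) (_ : Odd (orderOf x)), ⁅zpowers x, W⁆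

theorem mem_oddComm {W : Subgroup G} {x w : G} (hx : Odd (orderOf x)) (hw : w ∈ W) :
    x * w * x⁻¹ * w⁻¹ ∈ oddComm W :=
  le_iSup₂ (f := fun (x : G) (_ : Odd (orderOf x)) => ⁅zpowers x, W⁆) x hx
    (commutatorElement_def x w ▸ commutator_mem_commutator (mem_zpowers x) hw)

theorem odd_of_mem_zpowers {x y : G} (hx : Odd (orderOf x)) (hy : y ∈ zpowers x) : Odd (orderOf y) := by
  obtain ⟨k, rfl⟩ := mem_zpowers_iff.1 hy
  exact hx.of_dvd_nat (orderOf_dvd_of_mem_zpowers (zpow_mem_zpowers x k))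

theorem oddComm_le {W : Subgroup G} (hW : W.Normal) : oddComm W ≤ W :=
  iSup₂_le fun x _ => commutator_le_right _ W

theorem oddComm_normal {W : Subgroup G} (hW : W.Normal) : (oddComm W).Normal := by
  refine ⟨fun n hn g => ?_⟩
  let f := (MulAut.conj g).toMonoidHom
  have hle : (oddComm W).map f ≤ oddComm W := by
    rw [oddComm, Subgroup.map_iSup]
    refine iSup_le fun x => ?_
    rw [Subgroup.map_iSup]
    refine iSup_le fun hx => ?_
    rw [map_commutator, MonoidHom.map_zpowers]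
    refine (commutator_mono le_rfl (?_ : W.map f ≤ W)).trans
      (le_iSup₂ (f := fun (x : G) (_ : Odd (orderOf x)) => ⁅zpowers x, W⁆) (f x) ?_)
    · rintro _ ⟨w, hw, rfl⟩
      exact hW.conj_mem w hw g
    · rwa [show orderOf (f x) = orderOf x from orderOf_injective f (MulAut.conj g).injective x]
  exact hle (mem_map_of_mem f hn)

theorem eaMod_of_stable {P P1 E : Subgroup G} (hP : Cfsg.IsElementaryAbelian 2 P) (hle : P1 ≤ P)
    (h1 : E ≤ centralizer (P1 : Set G)) (h2 : ∀ e ∈ E, ∀ p ∈ P, e * p * e⁻¹ * p⁻¹ ∈ P1) :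
    EaMod P E := by
  have key : ∀ a ∈ E, ∀ b ∈ E, ∀ p ∈ P, ∃ u ∈ P1, ∃ v ∈ P1,
      a * p * a⁻¹ = u * p ∧ b * p * b⁻¹ = v * p ∧ (a * b) * p * (a * b)⁻¹ = u * v * p := by
    intro a ha b hb p hp
    refine ⟨_, h2 a ha p hp, _, h2 b hb p hp, by group, by group, ?_⟩
    set v := b * p * b⁻¹ * p⁻¹ with hv
    have hc : a * v = v * a := (mem_centralizer_iff.1 (h1 ha) v (h2 b hb p hp)).symm
    have hu : a * p * a⁻¹ * p⁻¹ * v = v * (a * p * a⁻¹ * p⁻¹) :=
      (ea_commute hP (hle (h2 a ha p hp)) (hle (h2 b hb p hp))).eq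
    calc a * b * p * (a * b)⁻¹ = (a * v) * p * a⁻¹ := by rw [hv]; group
      _ = v * (a * p * a⁻¹ * p⁻¹) * p := by rw [hc]; group
      _ = _ := by rw [← hu]
  have hsym : ∀ a ∈ E, ∀ b ∈ E, ∀ p ∈ P, a * b * p * (a * b)⁻¹ = b * a * p * (b * a)⁻¹ := by
    intro a ha b hb p hp
    obtain ⟨u, hu, v, hv, e1, e2, e3⟩ := key a ha b hb p hp
    obtain ⟨v', hv', u', hu', f1, f2, f3⟩ := key b hb a ha p hp
    rw [e3, f3, mul_right_cancel (f1.symm.trans e2), mul_right_cancel (f2.symm.trans e1),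
      (ea_commute hP (hle hu) (hle hv)).eq]
  refine ⟨fun r hr => mem_centralizer_iff.2 fun p hp => ?_,
    fun r hr s hs => mem_centralizer_iff.2 fun p hp => ?_⟩
  · obtain ⟨u, hu, v, hv, e1, e2, e3⟩ := key r hr r hr p hp
    have huv : u = v := mul_right_cancel (e1.symm.trans e2)
    rw [← huv, ea_sq hP (hle hu), one_mul] at e3
    exact (mul_inv_eq_iff_eq_mul.1 e3).symm
  · have hp' : r⁻¹ * s⁻¹ * p * (r⁻¹ * s⁻¹)⁻¹ ∈ P := by
      obtain ⟨u, hu, v, hv, -, -, e3⟩ := key r⁻¹ (inv_mem hr) s⁻¹ (inv_mem hs) p hp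
      rw [e3]
      exact mul_mem (mul_mem (hle hu) (hle hv)) hp
    refine (mul_inv_eq_iff_eq_mul.1 ?_).symm
    calc ⁅r, s⁆ * p * ⁅r, s⁆⁻¹
        = r * s * (r⁻¹ * s⁻¹ * p * (r⁻¹ * s⁻¹)⁻¹) * (r * s)⁻¹ := by
          rw [commutatorElement_def]; group
      _ = s * r * (r⁻¹ * s⁻¹ * p * (r⁻¹ * s⁻¹)⁻¹) * (s * r)⁻¹ := hsym r hr s hs _ hp'
      _ = p := by group

/-- Odd elements commuting with an action modulo `M`. -/
theorem comm_fix {Y X E M : Subgroup G} [M.Normal] (hot : OT Y X)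
    (hc : ∀ e ∈ E, ∀ p ∈ Y, ∀ x : G, Odd (orderOf x) →
      Commute x (e * p * e⁻¹ * p⁻¹))
    (hfix : ∀ e ∈ E, ∀ t ∈ X, Commute (QuotientGroup.mk' M e) (QuotientGroup.mk' M t))
    (hab : ∀ t ∈ X, ∀ e ∈ E, ∀ p ∈ Y, Commute t (e * p * e⁻¹ * p⁻¹))
    {x : G} (hx : Odd (orderOf x)) {e p : G} (he : e ∈ E) (hp : p ∈ Y) :
    Commute (QuotientGroup.mk' M (e⁻¹ * (x * e * x⁻¹))) (QuotientGroup.mk' M p) := by
  set π := QuotientGroup.mk' M
  have ht : x⁻¹ * p * x * p⁻¹ ∈ X := by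
    have := hot x⁻¹ (by rwa [orderOf_inv]) p hp
    rwa [inv_inv] at this
  have h1 : Commute (π x) (π e * π p * (π e)⁻¹ * (π p)⁻¹) := by
    rw [← map_mul, ← map_inv, ← map_mul, ← map_inv, ← map_mul]
    exact (hc e he p hp x hx).map π
  have h2 : Commute (π e) ((π x)⁻¹ * π p * π x * (π p)⁻¹) := by
    rw [← map_inv, ← map_mul, ← map_mul, ← map_inv, ← map_mul]
    exact hfix e he _ ht
  have h3 : Commute ((π x)⁻¹ * π p * π x * (π p)⁻¹) (π e * π p * (π e)⁻¹ * (π p)⁻¹) := by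
    simp only [← map_mul, ← map_inv]
    exact (hab _ ht e he p hp).map π
  rw [map_mul, map_mul, map_mul, map_inv, map_inv]
  set a := π x
  set b := π e
  set q := π p
  have key : a * b * a⁻¹ * q * (a * b * a⁻¹)⁻¹ = b * q * b⁻¹ :=
    calc a * b * a⁻¹ * q * (a * b * a⁻¹)⁻¹
        = a * (b * (a⁻¹ * q * a * q⁻¹)) * q * b⁻¹ * a⁻¹ := by group
      _ = a * ((a⁻¹ * q * a * q⁻¹) * b) * q * b⁻¹ * a⁻¹ := by rw [h2.eq]
      _ = a * ((a⁻¹ * q * a * q⁻¹) * (b * q * b⁻¹ * q⁻¹)) * q * a⁻¹ := by group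
      _ = a * ((b * q * b⁻¹ * q⁻¹) * (a⁻¹ * q * a * q⁻¹)) * q * a⁻¹ := by rw [h3.eq]
      _ = (a * (b * q * b⁻¹ * q⁻¹)) * (a⁻¹ * q) := by group
      _ = ((b * q * b⁻¹ * q⁻¹) * a) * (a⁻¹ * q) := by rw [h1.eq]
      _ = _ := by group
  show b⁻¹ * (a * b * a⁻¹) * q = q * (b⁻¹ * (a * b * a⁻¹))
  calc b⁻¹ * (a * b * a⁻¹) * q
      = b⁻¹ * (a * b * a⁻¹ * q * (a * b * a⁻¹)⁻¹) * (a * b * a⁻¹) := by group
    _ = b⁻¹ * (b * q * b⁻¹) * (a * b * a⁻¹) := by rw [key]
    _ = _ := by group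

variable [Finite G]

/-- The odd part of a normal 2-subgroup moves itself. -/
theorem oddComm_le_of_commutator {Q K : Subgroup G} (hQn : Q.Normal) (hQ : IsPGroup 2 Q)
    (h : ∀ x : G, Odd (orderOf x) → ∀ e ∈ oddComm Q, e⁻¹ * (x * e * x⁻¹) ∈ K) : oddComm Q ≤ K := by
  have := Fact.mk Nat.prime_two
  refine iSup₂_le fun x hx => ?_
  have hcop : (Nat.card (zpowers x)).Coprime (Nat.card Q) := by
    obtain ⟨n, hn⟩ := IsPGroup.iff_card.1 hQ
    rw [hn, Nat.card_zpowers]
    exact (Nat.coprime_two_right.2 hx).pow_right n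
  rw [commutator_comm, ← Coprime.commutator_commutator_eq
    (by rw [normalizer_eq_top_iff.2 hQn]; exact le_top) hcop (Or.inl inferInstance)]
  rw [commutator_le]
  intro e he y hy
  have he' : e ∈ oddComm Q := le_iSup₂ (f := fun (x : G) (_ : Odd (orderOf x)) => ⁅zpowers x, Q⁆) x hx
    (commutator_comm Q (zpowers x) ▸ he)
  have := h y (odd_of_mem_zpowers hx hy) e⁻¹ (inv_mem he')
  rwa [show ⁅e, y⁆ = e⁻¹⁻¹ * (y * e⁻¹ * y⁻¹) by rw [commutatorElement_def]; group]

/-- `⋁ X` above `V₀` shrinks to `V₀`. -/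
theorem eq_of_commutator {V0 P Q : Subgroup G} (hP : Cfsg.IsElementaryAbelian 2 P) (hQ : IsPGroup 2 Q)
    (hQn : Q.Normal) (hV0 : V0 ≤ P) (hQV : Q ≤ normalizer (V0 : Set G))
    (h : P ≤ V0 ⊔ ⁅P, Q⁆) : ∀ X : Subgroup G, X.Normal → X ≤ P → P ≤ V0 ⊔ X → P ≤ V0 := by
  have := Fact.mk Nat.prime_two
  intro X
  induction hn : Nat.card X using Nat.strong_induction_on generalizing X with
  | _ n ih =>
  intro hX hXP hPX
  by_cases hb : X = ⊥
  · rwa [hb, sup_bot_eq] at hPX
  have hlt : ⁅X, Q⁆ < X := Coprime.commutator_lt_of_isPGroup hQ ((Thompson.ea_isPGroup hP).to_le hXP)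
    (by rw [normalizer_eq_top_iff.2 hX]; exact le_top) hb
  refine ih _ (hn ▸ Core.card_lt_of_lt hlt) _ rfl inferInstance (hlt.le.trans hXP) ?_
  refine h.trans (sup_le le_sup_left ?_)
  rw [commutator_le]
  intro p hp q hq
  obtain ⟨v, hv, w, hw, rfl⟩ := mem_sup_of_normal_right.1 (hPX hp)
  have h1 : ⁅v, q⁆ ∈ V0 := by
    rw [commutatorElement_def, mul_assoc, mul_assoc]
    refine mul_mem hv ?_
    rw [← mul_assoc]
    exact (mem_normalizer_iff.1 (hQV hq) _).1 (inv_mem hv)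
  have h2 : ⁅w, q⁆ ∈ ⁅X, Q⁆ := commutator_mem_commutator hw hq
  have e : ⁅v * w, q⁆ = v * ⁅w, q⁆ * v⁻¹ * ⁅v, q⁆ := by
    simp only [commutatorElement_def]; group
  rw [e]
  exact mul_mem (mem_sup_right ((inferInstance : (⁅X, Q⁆).Normal).conj_mem _ h2 v)) (mem_sup_left h1)

variable {S : Sylow 2 G}

/-- A subgroup between normal subgroups on which the odd elements act trivially. -/
theorem exists_index_two {P' : Subgroup G} (hn : P'.Normal) (hp : Cfsg.IsElementaryAbelian 2 P')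
    (hne : P' ≠ ⊥) (hodd : ∀ x : G, Odd (orderOf x) → ∀ z ∈ P', Commute x z) (S : Sylow 2 G) :
    ∃ (M : Subgroup G) (_ : M.Normal), M < P' ∧ Nat.card (P'.map (QuotientGroup.mk' M)) ≤ 2 := by
  have := Fact.mk Nat.prime_two
  obtain ⟨M, ⟨hM, hMn⟩, hmax⟩ := Set.Finite.exists_maximalFor (fun M : Subgroup G => Nat.card M)
    {M : Subgroup G | M < P' ∧ M.Normal} (Set.toFinite _) ⟨⊥, bot_lt_iff_ne_bot.2 hne, inferInstance⟩
  refine ⟨M, hMn, hM, ?_⟩
  have := hMn
  have hnorm : ∀ Z : Subgroup G, Z ≤ P' → (S : Subgroup G) ≤ normalizer (Z : Set G) → Z.Normal :=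
    fun Z hZ hS => normalizer_eq_top_iff.1 (eq_top_of_odd S hS fun x hx =>
      centralizer_le_normalizer _ (mem_centralizer_iff.2 fun z hz => (hodd x hx z (hZ hz)).eq.symm))
  have hkey : ∀ Z : Subgroup G, M < Z → Z ≤ P' → (S : Subgroup G) ≤ normalizer (Z : Set G) → Z = P' := by
    intro Z hMZ hZ hS
    refine hZ.lt_or_eq.resolve_left fun hlt => ?_
    have := hmax ⟨hlt, hnorm Z hZ hS⟩ (card_le_of_le hMZ.le)
    exact absurd this (not_le.2 (Core.card_lt_of_lt hMZ))
  set π := QuotientGroup.mk' M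
  have hπ := QuotientGroup.mk'_surjective M
  have hker : π.ker = M := QuotientGroup.ker_mk' M
  have hPe := Thompson.ea_map hp π
  have hPb : P'.map π ≠ ⊥ := fun e => hM.not_ge fun z hz =>
    (QuotientGroup.eq_one_iff z).1 (mem_bot.1 (e ▸ mem_map_of_mem π hz))
  set Sb := (S : Subgroup G).map π
  have hSb : Sb ≤ normalizer (P'.map π : Set (G ⧸ M)) := by
    rw [normalizer_eq_top_iff.2 (hn.map π hπ)]; exact le_top
  have hlt : ⁅P'.map π, Sb⁆ < P'.map π :=
    Coprime.commutator_lt_of_isPGroup (S.2.map π) (Thompson.ea_isPGroup hPe) hSb hPb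
  -- the Sylow subgroup acts trivially
  set Z := (⁅P'.map π, Sb⁆).comap π
  have hMZ : M ≤ Z := hker ▸ ker_le_comap π _
  have hZP : Z ≤ P' := by
    refine (comap_mono hlt.le).trans ?_
    rw [comap_map_eq, hker]
    exact sup_le le_rfl hM.le
  have hSZ : (S : Subgroup G) ≤ normalizer (Z : Set G) :=
    (map_le_iff_le_comap.1 (normalizer_commutator_ge_right (P'.map π) Sb)).trans (le_normalizer_comap π)
  have hZ : Z ≤ M := by
    rcases hMZ.lt_or_eq with h | h
    · exfalso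
      have e := hkey Z h hZP hSZ
      exact hlt.ne (by rw [← map_comap_eq_self_of_surjective hπ ⁅P'.map π, Sb⁆]; exact congrArg (Subgroup.map π) e)
    · exact h.ge
  obtain ⟨z, hz, hzM⟩ := SetLike.not_le_iff_exists.1 (fun h => hM.not_ge h)
  set W := M ⊔ zpowers z
  have hWP : W ≤ P' := sup_le hM.le (zpowers_le.2 hz)
  have hSW : (S : Subgroup G) ≤ normalizer (W : Set G) := by
    intro s hs
    refine QdFree.ZJControl.mem_normalizer_of_conj fun w hw => ?_
    have h1 : π ⁅w, s⁆ ∈ ⁅P'.map π, Sb⁆ := by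
      rw [map_commutatorElement]
      exact commutator_mem_commutator (mem_map_of_mem π (hWP hw)) (mem_map_of_mem π hs)
    have h2 : ⁅w, s⁆ ∈ M := hZ h1
    rw [show s * w * s⁻¹ = ⁅w, s⁆⁻¹ * w by rw [commutatorElement_def]; group]
    exact mul_mem (mem_sup_left (inv_mem h2)) hw
  have hW := hkey W (lt_of_le_of_ne le_sup_left fun e => hzM (e ▸ mem_sup_right (mem_zpowers z))) hWP hSW
  rw [← hW, Subgroup.map_sup, QuotientGroup.map_mk'_self, bot_sup_eq, MonoidHom.map_zpowers, Nat.card_zpowers]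
  refine Nat.le_of_dvd two_pos (orderOf_dvd_of_pow_eq_one ?_)
  rw [← map_pow, pow_two, ea_sq hp hz, map_one]

/-- The pairing bound. -/
theorem pairing_bound {P E M P' : Subgroup G} [M.Normal] (hP : Cfsg.IsElementaryAbelian 2 P)
    (hP'P : P' ≤ P) (hEP : ∀ e ∈ E, ∀ p ∈ P, e * p * e⁻¹ * p⁻¹ ∈ P')
    (htwo : Nat.card (P'.map (QuotientGroup.mk' M)) ≤ 2) :
    Nat.card P * Nat.card (E ⊓ centralizer (P : Set G) : Subgroup G) ≤
      Nat.card (fixMod E P M) * Nat.card E := by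
  set π := QuotientGroup.mk' M
  set E0 := E ⊓ centralizer (P : Set G)
  have hbase : E0 ≤ E ∧ Nat.card P * Nat.card E0 ≤ Nat.card (fixMod E0 P M) * Nat.card E0 := by
    refine ⟨inf_le_left, Nat.mul_le_mul_right _ (card_le_of_le fun p hp => mem_fixMod.2 ⟨hp, fun a ha => ?_⟩)⟩
    exact (show Commute a p from (mem_centralizer_iff.1 ha.2 p hp).symm).map π
  obtain ⟨F, ⟨hFE, hF⟩, hmax⟩ := Set.Finite.exists_maximalFor (fun F : Subgroup G => Nat.card F)
    {F : Subgroup G | F ≤ E ∧ Nat.card P * Nat.card E0 ≤ Nat.card (fixMod F P M) * Nat.card F}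
    (Set.toFinite _) ⟨E0, hbase⟩
  by_cases hEF : E ≤ F
  · rwa [le_antisymm hFE hEF] at hF
  obtain ⟨e, he, heF⟩ := SetLike.not_le_iff_exists.1 hEF
  set F' := F ⊔ zpowers e
  have hF'E : F' ≤ E := sup_le hFE (zpowers_le.2 he)
  have hdouble : 2 * Nat.card F ≤ Nat.card F' :=
    SfFree.two_mul_card_le le_sup_left fun h => heF (h (mem_sup_right (mem_zpowers e)))
  have hfix : Nat.card (fixMod F P M) ≤ 2 * Nat.card (fixMod F' P M) := by
    set U := fixMod F P M
    let φ : U →* G ⧸ M := MonoidHom.mk' (fun p => π (e * (p : G) * e⁻¹ * (p : G)⁻¹)) fun p q => by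
      rw [← map_mul]
      refine congrArg π ?_
      have hp := (mem_fixMod.1 p.2).1
      have hq := (mem_fixMod.1 q.2).1
      have hcq : e * (q : G) * e⁻¹ * (q : G)⁻¹ ∈ P := hP'P (hEP e he _ hq)
      rw [Subgroup.coe_mul, mul_inv_rev]
      calc e * (↑p * ↑q) * e⁻¹ * ((↑q)⁻¹ * (↑p)⁻¹)
          = (e * ↑p * e⁻¹) * ((e * ↑q * e⁻¹ * (↑q)⁻¹) * (↑p)⁻¹) := by group
        _ = (e * ↑p * e⁻¹) * ((↑p)⁻¹ * (e * ↑q * e⁻¹ * (↑q)⁻¹)) := by
          rw [(ea_commute hP (inv_mem hp) hcq).eq]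
        _ = _ := by group
    have h1 : Nat.card φ.range ≤ 2 := le_trans (card_le_of_le (by
      rintro _ ⟨p, rfl⟩
      exact mem_map_of_mem π (hEP e he _ (mem_fixMod.1 p.2).1))) htwo
    have h2 : φ.ker.map U.subtype ≤ fixMod F' P M := by
      rintro _ ⟨p, hp, rfl⟩
      obtain ⟨hpP, hpF⟩ := mem_fixMod.1 p.2
      refine mem_fixMod.2 ⟨hpP, fun a ha => ?_⟩
      have hle : F' ≤ (centralizer {π (p : G)}).comap π := by
        refine sup_le (fun b hb => ?_) (zpowers_le.2 ?_)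
        · exact mem_centralizer_singleton_iff.2 (hpF b hb).eq
        · exact mem_centralizer_singleton_iff.2
            (commute_mk_iff.2 ((QuotientGroup.eq_one_iff _).1 (MonoidHom.mem_ker.1 hp))).eq
      exact mem_centralizer_singleton_iff.1 (hle ha)
    have h3 := φ.ker.card_mul_index
    rw [Subgroup.index_ker] at h3
    rw [← h3, mul_comm 2]
    refine Nat.mul_le_mul ?_ h1
    rw [← card_map_of_injective U.subtype_injective]
    exact card_le_of_le h2
  have hF'2 : Nat.card P * Nat.card E0 ≤ Nat.card (fixMod F' P M) * Nat.card F' := by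
    refine hF.trans ?_
    calc Nat.card (fixMod F P M) * Nat.card F ≤ 2 * Nat.card (fixMod F' P M) * Nat.card F :=
          Nat.mul_le_mul_right _ hfix
      _ = Nat.card (fixMod F' P M) * (2 * Nat.card F) := by ring
      _ ≤ _ := Nat.mul_le_mul_left _ hdouble
  have hback : Nat.card F' ≤ Nat.card F := hmax ⟨hF'E, hF'2⟩ (card_le_of_le le_sup_left)
  have hpos : 0 < Nat.card F := Nat.card_pos
  omega

/-- A largest elementary abelian subgroup fixing `V₀` fixes its normal closure. -/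
theorem mem_le_centralizer_clos (h : Hyp G)
    (hsmall : ∀ N : Subgroup G, N.Normal → N ⊔ (S : Subgroup G) ≠ ⊤ → (S : Subgroup G) ⊓ N ≤ Cfsg.pCore 2 G)
    {V0 : Subgroup G} (hSV : (S : Subgroup G) ≤ normalizer (V0 : Set G))
    (hP : Cfsg.IsElementaryAbelian 2 (clos V0)) (hPQ : clos V0 ≤ Cfsg.pCore 2 G)
    (hch : ChainP (Cfsg.pCore 2 G) (clos V0)) {A : Subgroup G} (hA : Mem (S : Subgroup G) A)
    (hAV : A ≤ centralizer (V0 : Set G)) : A ≤ centralizer (clos V0 : Set G) := by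
  have := Fact.mk Nat.prime_two
  set P := clos V0 with hPdef
  set Q := Cfsg.pCore 2 G
  have hQn : Q.Normal := Core.pCore_normal
  have hQp : IsPGroup 2 Q := Core.pCore_isPGroup
  have hPn : P.Normal := clos_normal V0
  have hQS : Q ≤ S := Core.pCore_le_sylow S
  have hVP : V0 ≤ P := le_clos V0
  set C := centralizer (P : Set G)
  have hCn : C.Normal := inferInstance
  have hfromV0 : P ≤ V0 → A ≤ C := fun e => hAV.trans (centralizer_le e)
  -- a normal subgroup containing `V0` contains `P`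
  have hclos : ∀ U : Subgroup G, U ≤ P → (S : Subgroup G) ≤ normalizer (U : Set G) → V0 ≤ U →
      (∀ x : G, Odd (orderOf x) → ∀ u ∈ U, x * u * x⁻¹ ∈ U) → P ≤ U := by
    intro U _ hS hV hodd
    have hUn : U.Normal := normalizer_eq_top_iff.1 (eq_top_of_odd S hS fun x hx =>
      QdFree.ZJControl.mem_normalizer_of_conj (hodd x hx))
    exact iSup_le fun g => cj_le_of_normal hUn hV g
  by_cases hCS : C ⊔ (S : Subgroup G) = ⊤
  · refine hfromV0 (iSup_le fun g => ?_)
    obtain ⟨c, hc, s, hs, rfl⟩ := mem_sup_of_normal_left.1 (hCS.ge (mem_top g))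
    rw [← cj_cj, SfFree.cj_of_mem_normalizer (hSV hs),
      SfFree.cj_of_commute (centralizer_le hVP hc)]
  by_contra hAC
  have hSC : (S : Subgroup G) ⊓ C ≤ Q := hsmall C hCn hCS
  set B := A ⊓ Q
  set nA := Nat.card A
  set nB := Nat.card B
  set nB0 := Nat.card (A ⊓ C : Subgroup G)
  set nP := Nat.card P
  set nF := Nat.card (P ⊓ centralizer (A : Set G) : Subgroup G)
  have hA0 : 0 < nA := Nat.card_pos
  have hB0 : 0 < nB0 := Nat.card_pos
  have hF0 : 0 < nF := Nat.card_pos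
  have hACB : A ⊓ C ≤ B := le_inf inf_le_left ((inf_le_inf_right C hA.1).trans hSC)
  have hBA : nB ≤ nA := card_le_of_le inf_le_left
  have hmaxA : nB0 * nP ≤ nA * nF := by
    have hc : A ⊓ C ≤ centralizer (P : Set G) := inf_le_right
    rw [show nB0 * nP = _ from (Thompson.card_sup_mul_card_inf_of_comm hc).symm]
    refine Nat.mul_le_mul (hA.2.2 _ (sup_le (inf_le_left.trans hA.1) (hPQ.trans hQS))
      (Thompson.ea_sup (Thompson.ea_mono hA.2.1 inf_le_left) hP hc)) (card_le_of_le fun z hz => ⟨hz.2, ?_⟩)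
    exact mem_centralizer_iff.2 fun a ha => (ea_commute hA.2.1 ha hz.1.1).eq
  have hsec : ∀ (Y X : Subgroup G) [X.Normal], Y.Normal → X ≤ Y → Y ≤ P → ¬ OT Y X →
      nA ^ 2 * Nat.card (fixMod A Y X) ≤ Nat.card Y * nB ^ 2 :=
    fun Y X _ hY hXY hYP hot => sec_codim h hsmall hA.1 hA.2.1 hP _ Y X hY hXY hYP le_rfl hot
  have hotP : ¬ OT P ⊥ := by
    intro hot
    refine hCS (eq_top_of_odd S le_sup_right fun x hx => mem_sup_left (mem_centralizer_iff.2 fun p hp => ?_))
    exact (mul_inv_eq_iff_eq_mul.1 (mul_inv_eq_one.1 (mem_bot.1 (hot x hx p hp)))).symm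
  -- the first section
  have hBC : ¬ B ≤ C := by
    intro hBC
    have e : nB0 = nB := congrArg (fun X : Subgroup G => Nat.card X)
      (le_antisymm hACB (le_inf inf_le_left hBC))
    have h1 := hsec P ⊥ hPn bot_le le_rfl hotP
    rw [fixMod_bot] at h1
    have h2 : nA ≤ nB := by
      rw [e] at hmaxA
      refine Nat.le_of_mul_le_mul_right ?_ (Nat.mul_pos (Nat.mul_pos hA0 hF0) (e ▸ hB0))
      calc nA * (nA * nF * nB) = nA ^ 2 * nF * nB := by ring
        _ ≤ nP * nB ^ 2 * nB := Nat.mul_le_mul_right _ h1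
        _ = nB * nP * nB ^ 2 := by ring
        _ ≤ nA * nF * nB ^ 2 := Nat.mul_le_mul_right _ hmaxA
        _ = _ := by ring
    exact hAC ((eq_of_le_of_card_ge inf_le_left h2 : B = A).ge.trans hBC)
  have hlt : nB ^ 3 < nA ^ 2 * nB0 := by
    have hI := (hch B inf_le_right (eaMod_of_ea (Thompson.ea_mono hA.2.1 inf_le_left))).2 hBC
    unfold Ineq at hI
    rw [show Nat.card (B ⊓ C : Subgroup G) = nB0 from congrArg (fun X : Subgroup G => Nat.card X)
      (le_antisymm (inf_le_inf_right _ inf_le_left) (le_inf hACB inf_le_right))] at hI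
    have hFle : nF ≤ Nat.card (P ⊓ centralizer (B : Set G) : Subgroup G) :=
      card_le_of_le (inf_le_inf_left P (centralizer_le (inf_le_left : B ≤ A)))
    refine Nat.lt_of_mul_lt_mul_right (a := nF ^ 2) ?_
    calc nB ^ 3 * nF ^ 2 ≤ nB ^ 3 * Nat.card (P ⊓ centralizer (B : Set G) : Subgroup G) ^ 2 :=
          Nat.mul_le_mul_left _ (Nat.pow_le_pow_left hFle 2)
      _ < nP ^ 2 * nB0 ^ 3 := hI
      _ = (nB0 * nP) ^ 2 * nB0 := by ring
      _ ≤ (nA * nF) ^ 2 * nB0 := Nat.mul_le_mul_right _ (Nat.pow_le_pow_left hmaxA 2)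
      _ = _ := by ring
  have two : ∀ (Y X : Subgroup G) [X.Normal] [Y.Normal], X ≤ Y → Y ≤ P → ¬ OT P Y → ¬ OT Y X → False := by
    intro Y X _ hYn hXY hYP h1 h2
    have b1 := hsec P Y hPn hYP le_rfl h1
    have b2 := hsec Y X hYn hXY hYP h2
    set F := P ⊓ centralizer (A : Set G)
    have hsplit : nF * Nat.card Y ≤ Nat.card (fixMod A P Y) * Nat.card (fixMod A Y X) := by
      refine (SfFree.card_mul_card_le F Y).trans (Nat.mul_le_mul (card_le_of_le (sup_le ?_ ?_)) (card_le_of_le ?_))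
      · exact fun z hz => mem_fixMod.2 ⟨hz.1, fun a ha =>
          (show Commute a z from mem_centralizer_iff.1 hz.2 a ha).map _⟩
      · exact fun z hz => mem_fixMod.2 ⟨hYP hz, fun a _ => by
          show Commute (QuotientGroup.mk' Y a) (QuotientGroup.mk' Y z)
          rw [show QuotientGroup.mk' Y z = 1 from (QuotientGroup.eq_one_iff z).2 hz]
          exact Commute.one_right _⟩
      · exact fun z hz => mem_fixMod.2 ⟨hz.2, fun a ha =>
          (show Commute a z from mem_centralizer_iff.1 hz.1.2 a ha).map _⟩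
    have h3 : nA ^ 4 * nF ≤ nP * nB ^ 4 := by
      refine Nat.le_of_mul_le_mul_right ?_ (Nat.card_pos (α := Y))
      calc nA ^ 4 * nF * Nat.card Y = nA ^ 4 * (nF * Nat.card Y) := by ring
        _ ≤ nA ^ 4 * (Nat.card (fixMod A P Y) * Nat.card (fixMod A Y X)) := Nat.mul_le_mul_left _ hsplit
        _ = (nA ^ 2 * Nat.card (fixMod A P Y)) * (nA ^ 2 * Nat.card (fixMod A Y X)) := by ring
        _ ≤ (nP * nB ^ 2) * (Nat.card Y * nB ^ 2) := Nat.mul_le_mul b1 b2
        _ = _ := by ring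
    have h4 : nA ^ 3 * nB0 ≤ nB ^ 4 := by
      refine Nat.le_of_mul_le_mul_right ?_ (Nat.mul_pos hA0 hF0)
      calc nA ^ 3 * nB0 * (nA * nF) = nA ^ 4 * nF * nB0 := by ring
        _ ≤ nP * nB ^ 4 * nB0 := Nat.mul_le_mul_right _ h3
        _ = nB0 * nP * nB ^ 4 := by ring
        _ ≤ nA * nF * nB ^ 4 := Nat.mul_le_mul_right _ hmaxA
        _ = _ := by ring
    have h5 : nB ^ 4 < nA ^ 3 * nB0 := by
      calc nB ^ 4 = nB ^ 3 * nB := by ring
        _ < nA ^ 2 * nB0 * nB := Nat.mul_lt_mul_of_pos_right hlt Nat.card_pos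
        _ ≤ nA ^ 2 * nB0 * nA := Nat.mul_le_mul_left _ hBA
        _ = _ := by ring
    omega
  set P1 := ⁅P, Q⁆
  have hP1P : P1 ≤ P := commutator_le_left P Q
  have hconjP1 : ∀ e ∈ Q, ∀ p ∈ P, e * p * e⁻¹ * p⁻¹ ∈ P1 := fun e he p hp => by
    show e * p * e⁻¹ * p⁻¹ ∈ ⁅P, Q⁆
    rw [commutator_comm, ← commutatorElement_def]
    exact commutator_mem_commutator he hp
  have hSU : ∀ X : Subgroup G, X.Normal → (S : Subgroup G) ≤ normalizer ((V0 ⊔ X : Subgroup G) : Set G) := by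
    intro X hX s hs
    refine mem_normalizer_iff_map_conj_eq.2 ?_
    rw [Subgroup.map_sup, mem_normalizer_iff_map_conj_eq.1 (hSV hs),
      mem_normalizer_iff_map_conj_eq.1 ((normalizer_eq_top_iff.2 hX).ge (mem_top s))]
  by_cases hP1 : OT P P1
  · -- everything moves into `[P, Q]`
    refine hAC (hfromV0 (eq_of_commutator hP hQp hQn hVP (hQS.trans hSV) ?_ P1 inferInstance hP1P ?_))
    all_goals
      refine hclos _ (sup_le hVP hP1P) (hSU P1 inferInstance) le_sup_left fun x hx u hu => ?_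
      have := mul_mem (mem_sup_right (S := V0) (hP1 x hx u (sup_le hVP hP1P hu))) hu
      rwa [inv_mul_cancel_right] at this
  have hP1z : OT P1 ⊥ := by
    by_contra hc
    exact two P1 ⊥ bot_le hP1P hP1 hc
  have hxP1 : ∀ x : G, Odd (orderOf x) → x ∈ centralizer (P1 : Set G) := fun x hx =>
    mem_centralizer_iff.2 fun z hz => (mul_inv_eq_iff_eq_mul.1 (mul_inv_eq_one.1 (mem_bot.1 (hP1z x hx z hz)))).symm
  set E := oddComm Q
  have hEn : E.Normal := oddComm_normal hQn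
  have hEQ : E ≤ Q := oddComm_le hQn
  have hEP1 : E ≤ centralizer (P1 : Set G) := by
    refine iSup₂_le fun x hx => ?_
    exact (commutator_mono (zpowers_le.2 (hxP1 x hx)) le_rfl).trans (commutator_le_left _ Q)
  by_cases hEC : E ≤ C
  · -- `Q` commutes with the odd action on `P`
    set P2 := oddComm P
    have hP2 : P2 ≤ centralizer (Q : Set G) := by
      refine iSup₂_le fun x hx => commutator_le.2 fun y hy p hp => mem_centralizer_iff.2 fun q hq => ?_
      have hy' := odd_of_mem_zpowers hx hy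
      have hcp : y * p * y⁻¹ * p⁻¹ ∈ P := mul_mem (hPn.conj_mem p hp y) (inv_mem hp)
      have hw : y * q * y⁻¹ * q⁻¹ ∈ C := hEC (mem_oddComm hy' hq)
      set a := q * p * q⁻¹ * p⁻¹ with ha
      have hay : y * a = a * y := (mem_centralizer_iff.1 (hxP1 y hy') a (hconjP1 q hq p hp)).symm
      have haP : a ∈ P := hP1P (hconjP1 q hq p hp)
      have hqp : q * p * q⁻¹ = a * p := by rw [ha]; group
      have h1 : q * (y * p * y⁻¹) * q⁻¹ = a * (y * p * y⁻¹) := by
        have hz : y * (q * p * q⁻¹) * y⁻¹ = a * (y * p * y⁻¹) := by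
          rw [hqp]
          calc y * (a * p) * y⁻¹ = (y * a) * p * y⁻¹ := by group
            _ = _ := by rw [hay]; group
        have hcz := mem_centralizer_iff.1 hw (q * (y * p * y⁻¹) * q⁻¹) (hPn.conj_mem _ (hPn.conj_mem p hp y) q)
        rw [← hz]
        calc q * (y * p * y⁻¹) * q⁻¹
            = (y * q * y⁻¹ * q⁻¹) * (q * (y * p * y⁻¹) * q⁻¹) * (y * q * y⁻¹ * q⁻¹)⁻¹ := by
              rw [← hcz, mul_inv_cancel_right]
          _ = _ := by group
      rw [commutatorElement_def]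
      refine mul_inv_eq_iff_eq_mul.1 ?_
      calc q * (y * p * y⁻¹ * p⁻¹) * q⁻¹ = (q * (y * p * y⁻¹) * q⁻¹) * (q * p * q⁻¹)⁻¹ := by group
        _ = a * (y * p * y⁻¹ * p⁻¹) * a⁻¹ := by rw [h1, hqp]; group
        _ = _ := by
          rw [(ea_commute hP haP hcp).eq, mul_inv_cancel_right]
    have hP2P : P2 ≤ P := oddComm_le hPn
    have hP2n : P2.Normal := oddComm_normal hPn
    have hPU : P ≤ V0 ⊔ P2 := by
      refine hclos _ (sup_le hVP hP2P) (hSU P2 hP2n) le_sup_left fun x hx u hu => ?_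
      have := mul_mem (mem_sup_right (S := V0) (mem_oddComm hx (sup_le hVP hP2P hu))) hu
      rwa [inv_mul_cancel_right] at this
    exact hBC (le_centralizer_iff.1 (hPU.trans (sup_le (le_centralizer_iff.1 (inf_le_left.trans hAV))
      (hP2.trans (centralizer_le (inf_le_right : B ≤ Q))))))
  -- `E` moves `P`
  have hEaE : EaMod P E := eaMod_of_stable hP hP1P hEP1 fun e he p hp => hconjP1 e (hEQ he) p hp
  set P' := ⁅P, E⁆
  have hP'P1 : P' ≤ P1 := commutator_mono le_rfl hEQ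
  have hP'ne : P' ≠ ⊥ := fun e => hEC (le_centralizer_iff.1 (commutator_eq_bot_iff_le_centralizer.1 e))
  have hP'mem : ∀ e ∈ E, ∀ p ∈ P, e * p * e⁻¹ * p⁻¹ ∈ P' := fun e he p hp => by
    show e * p * e⁻¹ * p⁻¹ ∈ ⁅P, E⁆
    rw [commutator_comm, ← commutatorElement_def]
    exact commutator_mem_commutator he hp
  obtain ⟨M, hMn, hMP', htwo⟩ := exists_index_two (inferInstance : P'.Normal)
    (Thompson.ea_mono hP (hP'P1.trans hP1P)) hP'ne
    (fun x hx z hz => (mem_centralizer_iff.1 (hxP1 x hx) z (hP'P1 hz)).symm) S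
  set T0 := P ⊓ centralizer (E : Set G)
  have hT0n : T0.Normal := inferInstance
  have hcE : ∀ e ∈ E, ∀ p ∈ P, ∀ x : G, Odd (orderOf x) → Commute x (e * p * e⁻¹ * p⁻¹) :=
    fun e he p hp x hx => (mem_centralizer_iff.1 (hxP1 x hx) _ (hconjP1 e (hEQ he) p hp)).symm
  have hPc : ∀ {X Y : Subgroup G}, X ≤ P → Y ≤ P → ∀ t ∈ X, ∀ e ∈ E, ∀ p ∈ Y,
      Commute t (e * p * e⁻¹ * p⁻¹) :=
    fun hX hY t ht e he p hp => ea_commute hP (hX ht) (hP1P (hconjP1 e (hEQ he) p (hY hp)))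
  set π := QuotientGroup.mk' M
  set XM := fixMod E P M
  have hXMn : XM.Normal := by
    have h1 : (E.map π).Normal := hEn.map π (QuotientGroup.mk'_surjective M)
    have h2 : ((centralizer (E.map π : Set (G ⧸ M))).comap π).Normal := inferInstance
    exact (inferInstance : (P ⊓ (centralizer (E.map π : Set (G ⧸ M))).comap π).Normal)
  have hXMP : XM ≤ P := inf_le_left
  have hTX : T0 ≤ XM := fun z hz => mem_fixMod.2 ⟨hz.1, fun a ha =>
    (show Commute a z from mem_centralizer_iff.1 hz.2 a ha).map π⟩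
  have hXT : XM ≤ T0 := by
    by_cases hot : OT XM T0
    · refine le_inf hXMP (le_centralizer_iff.1 (oddComm_le_of_commutator hQn hQp fun x hx e he =>
        mem_centralizer_iff.2 fun p hp => ?_))
      have hb := comm_fix (M := (⊥ : Subgroup G)) hot (fun e he p hp => hcE e he p (hXMP hp))
        (fun e he t ht => (show Commute e t from mem_centralizer_iff.1 ht.2 e he).map _)
        (hPc inf_le_left hXMP) hx he hp
      have := commute_mk_iff.1 hb
      rw [mem_bot, mul_inv_eq_one, mul_inv_eq_iff_eq_mul] at this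
      exact this.symm
    · exfalso
      by_cases hot2 : OT P XM
      · refine hMP'.not_ge (commutator_le.2 fun p hp e he => ?_)
        have hEK : E ≤ (centralizer (P.map π : Set (G ⧸ M))).comap π :=
          oddComm_le_of_commutator hQn hQp fun x hx e he => mem_centralizer_iff.2 (by
            rintro _ ⟨p, hp, rfl⟩
            exact (comm_fix hot2 hcE (fun e he t ht => (mem_fixMod.1 ht).2 e he)
              (hPc hXMP le_rfl) hx he hp).eq.symm)
        have hce : Commute (π p) (π e) := mem_centralizer_iff.1 (hEK he) _ (mem_map_of_mem π hp)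
        exact commutatorElement_def p e ▸ commute_mk_iff.1 hce
      · exact two XM T0 hTX hXMP hot2 hot
  have hb := pairing_bound hP (hP'P1.trans hP1P) hP'mem htwo
  rw [show fixMod E P M = T0 from le_antisymm hXT hTX] at hb
  have hI := (hch E hEQ hEaE).2 hEC
  unfold Ineq at hI
  set t := Nat.card T0
  set ne := Nat.card E
  set n0 := Nat.card (E ⊓ centralizer (P : Set G) : Subgroup G)
  have hn0 : n0 ≤ ne := card_le_of_le inf_le_left
  have : ne ^ 3 * t ^ 2 < ne ^ 3 * t ^ 2 :=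
    calc ne ^ 3 * t ^ 2 < nP ^ 2 * n0 ^ 3 := hI
      _ = (nP * n0) ^ 2 * n0 := by ring
      _ ≤ (t * ne) ^ 2 * ne := Nat.mul_le_mul (Nat.pow_le_pow_left hb 2) hn0
      _ = _ := by ring
  exact lt_irrefl _ this

end Cfsg.Agent.S4Comp
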