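import Cfsg.Agent.S4Free.Basic
import Cfsg.Prelude.Def_LocalEven

/-!
# E-groups and the subgroup `Ĵ`
-/

set_option autoImplicit false

namespace Cfsg.Agent.S4Comp

open Subgroup
open Cfsg.Agent.SfFree (Mem jS le_jS jS_le cj ea_commute ea_sq)
open scoped commutatorElement

variable {L : Type*} [Group L]

/-- `R` is elementary abelian modulo the centralizer of `V`. -/
def EaMod (V R : Subgroup L) : Prop :=
  (∀ r ∈ R, r * r ∈ centralizer (V : Set L)) ∧
    ∀ r ∈ R, ∀ s ∈ R, ⁅r, s⁆ ∈ centralizer (V : Set L)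

theorem eaMod_of_ea {V R : Subgroup L} (hR : Cfsg.IsElementaryAbelian 2 R) : EaMod V R :=
  ⟨fun r hr => by rw [ea_sq hR hr]; exact one_mem _, fun r hr s hs => by
    rw [commutatorElement_eq_one_iff_commute.2 (ea_commute hR hr hs)]; exact one_mem _⟩

theorem eaMod_mono {V V' R R' : Subgroup L} (h : EaMod V R) (hV : V' ≤ V) (hR : R' ≤ R) :
    EaMod V' R' :=
  ⟨fun r hr => centralizer_le hV (h.1 r (hR hr)),
    fun r hr s hs => centralizer_le hV (h.2 r (hR hr) s (hR hs))⟩

/-- The first inequality, for a single subgroup. -/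
def Ineq (V R : Subgroup L) : Prop :=
  Nat.card R ^ 3 * Nat.card (V ⊓ centralizer (R : Set L) : Subgroup L) ^ 2 <
    Nat.card V ^ 2 * Nat.card (R ⊓ centralizer (V : Set L) : Subgroup L) ^ 3

/-- The second inequality. -/
def Ineq' (V R : Subgroup L) : Prop :=
  Nat.card R < Nat.card (⁅V, R⁆ : Subgroup L) * Nat.card (R ⊓ centralizer (V : Set L) : Subgroup L)

/-- The property in the definition of E-groups. -/
def Strong (T V : Subgroup L) : Prop :=
  ∀ R ≤ T, EaMod V R → ¬ R ≤ centralizer (V : Set L) → Ineq V R ∧ Ineq' V R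

/-- `T` is an E-group. -/
def EG (T : Subgroup L) : Prop :=
  ∀ V ≤ T, T ≤ normalizer (V : Set L) → Cfsg.IsElementaryAbelian 2 V → Strong T V →
    T ≤ centralizer (V : Set L)

/-- The join of the E-groups between `J(S)` and `S`. -/
def jh (S : Subgroup L) : Subgroup L := ⨆ (U : Subgroup L) (_ : U ≤ S ∧ EG U ∧ jS S ≤ U), U

theorem le_jh {S U : Subgroup L} (h : U ≤ S) (hE : EG U) (hJ : jS S ≤ U) : U ≤ jh S :=
  le_iSup₂ (f := fun (U : Subgroup L) (_ : U ≤ S ∧ EG U ∧ jS S ≤ U) => U) U ⟨h, hE, hJ⟩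

theorem jh_le (S : Subgroup L) : jh S ≤ S := iSup₂_le fun _ h => h.1

theorem map_centralizer_le {N : Type*} [Group N] (ι : N →* L) {X : Subgroup N} {z : N}
    (hz : z ∈ centralizer (X : Set N)) : ι z ∈ centralizer (X.map ι : Set L) := by
  rw [mem_centralizer_iff]
  rintro _ ⟨w, hw, rfl⟩
  rw [← map_mul, ← map_mul, mem_centralizer_iff.1 hz w hw]

theorem mem_centralizer_map_iff {N : Type*} [Group N] {ι : N →* L} (hι : Function.Injective ι)
    {X : Subgroup N} {z : N} : ι z ∈ centralizer (X.map ι : Set L) ↔ z ∈ centralizer (X : Set N) :=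
  ⟨fun h => mem_centralizer_iff.2 fun w hw => hι (by
    rw [map_mul, map_mul]; exact mem_centralizer_iff.1 h _ (mem_map_of_mem ι hw)), map_centralizer_le ι⟩

theorem map_le_centralizer_iff {N : Type*} [Group N] {ι : N →* L} (hι : Function.Injective ι)
    {X R : Subgroup N} : R.map ι ≤ centralizer (X.map ι : Set L) ↔ R ≤ centralizer (X : Set N) :=
  ⟨fun h r hr => (mem_centralizer_map_iff hι).1 (h (mem_map_of_mem ι hr)),
    fun h => by rintro _ ⟨r, hr, rfl⟩; exact map_centralizer_le ι (h hr)⟩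

theorem eaMod_map {N : Type*} [Group N] {ι : N →* L} (hι : Function.Injective ι) {V R : Subgroup N} :
    EaMod (V.map ι) (R.map ι) ↔ EaMod V R := by
  constructor
  · intro h
    refine ⟨fun r hr => (mem_centralizer_map_iff hι).1 ?_, fun r hr s hs => (mem_centralizer_map_iff hι).1 ?_⟩
    · rw [map_mul]; exact h.1 _ (mem_map_of_mem ι hr)
    · rw [map_commutatorElement]; exact h.2 _ (mem_map_of_mem ι hr) _ (mem_map_of_mem ι hs)
  · intro h
    refine ⟨?_, ?_⟩
    · rintro _ ⟨r, hr, rfl⟩
      rw [← map_mul]; exact map_centralizer_le ι (h.1 r hr)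
    · rintro _ ⟨r, hr, rfl⟩ _ ⟨s, hs, rfl⟩
      rw [← map_commutatorElement]; exact map_centralizer_le ι (h.2 r hr s hs)

theorem ineq_map {N : Type*} [Group N] {ι : N →* L} (hι : Function.Injective ι) {V R : Subgroup N} :
    (Ineq (V.map ι) (R.map ι) ↔ Ineq V R) ∧ (Ineq' (V.map ι) (R.map ι) ↔ Ineq' V R) := by
  unfold Ineq Ineq'
  simp only [← SfFree.map_inf_centralizer hι, ← map_commutator, card_map_of_injective hι, and_self,
    iff_self]

theorem normalizes_map {N : Type*} [Group N] {ι : N →* L} (hι : Function.Injective ι) {V T : Subgroup N} :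
    T.map ι ≤ normalizer (V.map ι : Set L) ↔ T ≤ normalizer (V : Set N) := by
  refine ⟨fun h t ht => mem_normalizer_iff.2 fun v => ?_, fun h => (map_mono h).trans (le_normalizer_map ι)⟩
  rw [← mem_map_iff_mem hι, ← mem_map_iff_mem hι (x := t * v * t⁻¹), map_mul, map_mul, map_inv]
  exact mem_normalizer_iff.1 (h (mem_map_of_mem ι ht)) _

theorem strong_map {N : Type*} [Group N] {ι : N →* L} (hι : Function.Injective ι) {T V : Subgroup N} :
    Strong (T.map ι) (V.map ι) ↔ Strong T V := by
  constructor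
  · intro h R hR he hn
    have := h (R.map ι) (map_mono hR) ((eaMod_map hι).2 he) (fun h' => hn ((map_le_centralizer_iff hι).1 h'))
    exact ⟨(ineq_map hι).1.1 this.1, (ineq_map hι).2.1 this.2⟩
  · intro h R hR he hn
    have hR' : (R.comap ι).map ι = R := map_comap_eq_self (hR.trans (map_le_range ι T))
    rw [← hR'] at he hn hR ⊢
    have := h (R.comap ι) ((map_le_map_iff_of_injective hι).1 hR) ((eaMod_map hι).1 he)
      (fun h' => hn ((map_le_centralizer_iff hι).2 h'))
    exact ⟨(ineq_map hι).1.2 this.1, (ineq_map hι).2.2 this.2⟩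

theorem eg_map {N : Type*} [Group N] {ι : N →* L} (hι : Function.Injective ι) {T : Subgroup N} :
    EG (T.map ι) ↔ EG T := by
  constructor
  · intro h V hV hN hE hs
    exact (map_le_centralizer_iff hι).1 (h (V.map ι) (map_mono hV) ((normalizes_map hι).2 hN)
      (Thompson.ea_map hE ι) ((strong_map hι).2 hs))
  · intro h V hV hN hE hs
    have hV' : (V.comap ι).map ι = V := map_comap_eq_self (hV.trans (map_le_range ι T))
    rw [← hV'] at hV hN hE hs ⊢
    exact (map_le_centralizer_iff hι).2 (h (V.comap ι) ((map_le_map_iff_of_injective hι).1 hV)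
      ((normalizes_map hι).1 hN) ((Thompson.ea_map_iff hι).1 hE) ((strong_map hι).1 hs))

theorem jh_map {N : Type*} [Group N] {ι : N →* L} (hι : Function.Injective ι) (S : Subgroup N) :
    jh (S.map ι) = (jh S).map ι := by
  refine le_antisymm (iSup₂_le fun U hU => ?_) ?_
  · have hU' : (U.comap ι).map ι = U := map_comap_eq_self (hU.1.trans (map_le_range ι S))
    rw [← hU', SfFree.jS_map hι] at hU
    rw [← hU']
    exact map_mono (le_jh ((map_le_map_iff_of_injective hι).1 hU.1) ((eg_map hι).1 hU.2.1)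
      ((map_le_map_iff_of_injective hι).1 hU.2.2))
  · rw [jh, Subgroup.map_iSup]
    refine iSup_le fun U => ?_
    rw [Subgroup.map_iSup]
    exact iSup_le fun hU => le_jh (map_mono hU.1) ((eg_map hι).2 hU.2.1)
      (by rw [SfFree.jS_map hι]; exact map_mono hU.2.2)

/-- The intrinsic definition. -/
theorem eg_top_iff {T : Type*} [Group T] : EG (⊤ : Subgroup T) ↔ Cfsg.IsEGroup T := by
  have hR : ∀ (V R : Subgroup T), EaMod V R ↔
      (⁅R, R⁆ ≤ centralizer (V : Set T) ∧ ∀ r ∈ R, r ^ 2 ∈ centralizer (V : Set T)) := fun V R =>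
    ⟨fun h => ⟨commutator_le.2 h.2, fun r hr => by rw [pow_two]; exact h.1 r hr⟩,
      fun h => ⟨fun r hr => by rw [← pow_two]; exact h.2 r hr,
        fun r hr s hs => commutator_le.1 h.1 r hr s hs⟩⟩
  constructor
  · intro h V hV hE hs
    have := h V le_top (by rw [normalizer_eq_top_iff.2 hV]) hE fun R _ he hn => by
      obtain ⟨h1, h2⟩ := hs R ((hR V R).1 he).1 ((hR V R).1 he).2 hn
      exact ⟨h1, h2⟩
    exact fun v hv => mem_center_iff.2 fun t => (mem_centralizer_iff.1 (this (mem_top t)) v hv).symm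
  · intro h V _ hN hE hs
    have hV : V.Normal := normalizer_eq_top_iff.1 (top_le_iff.1 hN)
    have := h V hV hE fun R h1 h2 hn => by
      obtain ⟨g1, g2⟩ := hs R le_top ((hR V R).2 ⟨h1, h2⟩) hn
      exact ⟨g1, g2⟩
    exact fun t _ => mem_centralizer_iff.2 fun v hv => (mem_center_iff.1 (this hv) t).symm

theorem eg_iff_isEGroup {U : Subgroup L} : EG U ↔ Cfsg.IsEGroup U := by
  rw [← eg_top_iff]
  conv_lhs => rw [← U.range_subtype, MonoidHom.range_eq_map]
  exact eg_map U.subtype_injective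

theorem jS_eq_thompsonOf (S : Subgroup L) : jS S = Cfsg.thompsonSubgroupOf 2 S := by
  have key : ∀ A : Subgroup S, A ∈ Cfsg.maxElementaryAbelianSubgroups 2 S ↔ Mem S (A.map S.subtype) := by
    intro A
    constructor
    · rintro ⟨h1, h2⟩
      refine ⟨map_subtype_le _, Thompson.ea_map h1 _, fun B hB hBe => ?_⟩
      have := h2 (B.subgroupOf S) ((Thompson.ea_map_iff S.subtype_injective).1
        (by rwa [map_subgroupOf_eq_of_le hB]))
      rwa [← card_map_of_injective S.subtype_injective, map_subgroupOf_eq_of_le hB,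
        ← card_map_of_injective (K := A) S.subtype_injective] at this
    · rintro ⟨-, h1, h2⟩
      refine ⟨(Thompson.ea_map_iff S.subtype_injective).1 h1, fun B hB => ?_⟩
      have := h2 (B.map S.subtype) (map_subtype_le _) (Thompson.ea_map hB _)
      rwa [card_map_of_injective S.subtype_injective, card_map_of_injective S.subtype_injective] at this
  refine le_antisymm (iSup₂_le fun A hA => ?_) ?_
  · have hA' : (A.subgroupOf S).map S.subtype = A := map_subgroupOf_eq_of_le hA.1
    rw [← hA'] at hA ⊢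
    exact map_mono (le_sSup ((key _).2 hA))
  · rw [Cfsg.thompsonSubgroupOf, Cfsg.thompsonSubgroup, map_le_iff_le_comap, sSup_le_iff]
    intro A hA
    rw [← map_le_iff_le_comap]
    exact le_jS ((key A).1 hA)

theorem jh_eq_jHat (S : Subgroup L) : jh S = (Cfsg.jHat S).map S.subtype := by
  refine le_antisymm (iSup₂_le fun U hU => ?_) ?_
  · have hU' : (U.subgroupOf S).map S.subtype = U := map_subgroupOf_eq_of_le hU.1
    rw [← hU']
    refine map_mono (le_sSup ⟨?_, ?_⟩)
    · rw [← eg_iff_isEGroup, ← eg_map S.subtype_injective, hU']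
      exact hU.2.1
    · rw [← map_le_map_iff_of_injective S.subtype_injective, hU', ← Cfsg.thompsonSubgroupOf,
        ← jS_eq_thompsonOf]
      exact hU.2.2
  · rw [Cfsg.jHat, map_le_iff_le_comap, sSup_le_iff]
    rintro U ⟨hU, hJ⟩
    rw [← map_le_iff_le_comap]
    refine le_jh (map_subtype_le _) ((eg_map S.subtype_injective).2 (eg_iff_isEGroup.2 hU)) ?_
    rw [jS_eq_thompsonOf]
    exact map_mono hJ

variable [Finite L]

/-- A largest elementary abelian subgroup centralises every `V` with the inequality. -/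
theorem mem_le_centralizer {S V A : Subgroup L} (hV : V ≤ S) (hVe : Cfsg.IsElementaryAbelian 2 V)
    (hA : Mem S A) (h : ¬ A ≤ centralizer (V : Set L) → Ineq V A) : A ≤ centralizer (V : Set L) := by
  by_contra hn
  have hI := h hn
  unfold Ineq at hI
  set CA := A ⊓ centralizer (V : Set L)
  set CV := V ⊓ centralizer (A : Set L)
  have hcomm : CA ≤ centralizer (V : Set L) := inf_le_right
  have e := Thompson.card_sup_mul_card_inf_of_comm hcomm
  have hE : Cfsg.IsElementaryAbelian 2 (CA ⊔ V : Subgroup L) :=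
    Thompson.ea_sup (Thompson.ea_mono hA.2.1 inf_le_left) hVe hcomm
  have h1 := hA.2.2 _ (sup_le (inf_le_left.trans hA.1) hV) hE
  have h2 : Nat.card (CA ⊓ V : Subgroup L) ≤ Nat.card CV := card_le_of_le (fun z hz =>
    ⟨hz.2, mem_centralizer_iff.2 fun a ha => (ea_commute hA.2.1 ha hz.1.1).eq⟩)
  have h3 : Nat.card CA * Nat.card V ≤ Nat.card A * Nat.card CV := e ▸ Nat.mul_le_mul h1 h2
  have h4 : Nat.card CA ≤ Nat.card A := card_le_of_le inf_le_left
  have h5 : 0 < Nat.card CA := Nat.card_pos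
  have h6 : 0 < Nat.card CV := Nat.card_pos
  nlinarith [Nat.mul_le_mul h3 h3, Nat.mul_le_mul_left (Nat.card A ^ 2 * Nat.card CV ^ 2) h4]

theorem eg_jS (S : Subgroup L) : EG (jS S) := by
  intro V hV _ hE hs
  refine iSup₂_le fun A hA => mem_le_centralizer (hV.trans (jS_le S)) hE hA fun hn => ?_
  exact (hs A (le_jS hA) (eaMod_of_ea hA.2.1) hn).1

theorem jS_le_jh (S : Subgroup L) : jS S ≤ jh S := le_jh (jS_le S) (eg_jS S) le_rfl

theorem jS_eq_of_le {S T : Subgroup L} (hT : T ≤ S) (hJ : jS S ≤ T) : jS T = jS S := by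
  refine le_antisymm (iSup₂_le fun A hA => ?_) (iSup₂_le fun A hA => ?_)
  · obtain ⟨B, hB⟩ := SfFree.exists_mem S
    exact le_jS (hB.of_card (hA.1.trans hT) hA.2.1 (hA.2.2 B ((le_jS hB).trans hJ) hB.2.1))
  · exact le_jS ⟨(le_jS hA).trans hJ, hA.2.1, fun B hB hBe => hA.2.2 B (hB.trans hT) hBe⟩

theorem jh_eq_of_le {S T : Subgroup L} (hT : T ≤ S) (hJ : jh S ≤ T) : jh T = jh S := by
  have e := jS_eq_of_le hT ((jS_le_jh S).trans hJ)
  refine le_antisymm (iSup₂_le fun U hU => le_jh (hU.1.trans hT) hU.2.1 (e ▸ hU.2.2))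
    (iSup₂_le fun U hU => le_jh ((le_jh hU.1 hU.2.1 hU.2.2).trans hJ) hU.2.1 (by rw [e]; exact hU.2.2))

theorem mem_normalizer_jh {S : Subgroup L} {g : L} (hg : g ∈ normalizer (S : Set L)) :
    g ∈ normalizer (jh S : Set L) := by
  rw [mem_normalizer_iff_map_conj_eq]
  have := (jh_map (ι := (MulAut.conj g).toMonoidHom) (MulAut.conj g).injective S).symm
  rwa [show S.map (MulAut.conj g).toMonoidHom = S from mem_normalizer_iff_map_conj_eq.1 hg] at this

theorem le_normalizer_jS_of {S : Subgroup L} : normalizer (S : Set L) ≤ normalizer (jS S : Set L) :=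
  fun g hg => by
    rw [mem_normalizer_iff_map_conj_eq]
    have := (SfFree.jS_map (ι := (MulAut.conj g).toMonoidHom) (MulAut.conj g).injective S).symm
    rwa [show S.map (MulAut.conj g).toMonoidHom = S from mem_normalizer_iff_map_conj_eq.1 hg] at this

end Cfsg.Agent.S4Comp
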