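import Cfsg.Agent.S4Comp.Sec

/-!
# Fusion is controlled by `N(Ĵ(S))` and `C(Z(S))`
-/

set_option autoImplicit false

namespace Cfsg.Agent.S4Comp

open Subgroup
open Cfsg.Agent.SfFree (Mem jS le_jS jS_le)
open Cfsg.Agent.Control (cjSub SylIn Ctrl FusCtrl GoodRel GoodAbove Adm)
open scoped commutatorElement

universe u

variable {G : Type u} [Group G]

/-- The centre as a subgroup. -/
def zF (H : Subgroup G) : Subgroup G := H ⊓ centralizer (H : Set G)

theorem zF_map {N : Type u} [Group N] {ι : N →* G} (hι : Function.Injective ι) (H : Subgroup N) :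
    zF (H.map ι) = (zF H).map ι := by
  rw [zF, zF, ← SfFree.map_inf_centralizer hι]

variable [Finite G]

theorem zF_ne_bot {H : Subgroup G} (hH : IsPGroup 2 H) (hne : H ≠ ⊥) : zF H ≠ ⊥ := by
  have := Fact.mk Nat.prime_two
  have : Nontrivial H := (nontrivial_iff_ne_bot H).2 hne
  have := hH.center_nontrivial
  obtain ⟨z, hz⟩ := exists_ne (1 : center H)
  intro hb
  refine hz (Subtype.ext (Subtype.ext (mem_bot.1 (hb ▸ mem_inf.2 ⟨z.1.2, mem_centralizer_iff.2 fun y hy => ?_⟩))))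
  exact congrArg Subtype.val (mem_center_iff.1 z.2 ⟨y, hy⟩)

theorem pairData (P : Sylow 2 G) (hP : (P : Subgroup G) ≠ ⊥) :
    Control.PairData (p := 2) P (jh (L := G)) zF where
  hW := fun H hH => ⟨jh_le H, fun hne hb => zF_ne_bot hH hne (eq_bot_iff.2 (hb ▸ center_le_jh H)),
    fun g => jh_map (MulAut.conj g).injective H⟩
  hV := fun H hH => ⟨inf_le_left, fun hne => zF_ne_bot hH hne,
    fun g => zF_map (MulAut.conj g).injective H⟩
  hWZ := fun H _ => center_le_jh H
  hmono := fun _ _ _ _ _ _ h => h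
  hP1 := hP

/-- The two subgroups controlling fusion. -/
def pairSet (T : Subgroup G) : Set (Subgroup G) :=
  {normalizer (jh T : Set G), centralizer (zF T : Set G)}

theorem pair_aux (n : ℕ) : ∀ (G : Type u) [Group G] [Finite G], Nat.card G = n → SecHyp G →
    ∀ S : Sylow 2 G, FusCtrl (pairSet (S : Subgroup G)) (S : Subgroup G) ⊤ := by
  induction n using Nat.strong_induction_on with
  | _ n ih =>
  intro G _ _ hn h S
  subst hn
  have := Fact.mk Nat.prime_two
  -- proper subgroups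
  have hsub : ∀ (Y T : Subgroup G), Y ≠ ⊤ → SylIn 2 T Y →
      FusCtrl {Y ⊓ normalizer (jh T : Set G), Y ⊓ centralizer (zF T : Set G)} T Y := by
    intro Y T hY hT A y hy hA hyA
    have hTe : (T.subgroupOf Y).map Y.subtype = T := map_subgroupOf_eq_of_le hT.le
    let S' : Sylow 2 Y := (hT.isPGroup.comap_subtype (K := Y)).toSylow hT.not_dvd
    have hc := ih _ (Core.card_lt_of_ne_top hY) Y rfl (h.subgroup Y) S' (Y.subtype ⁻¹' A) ⟨y, hy⟩
      (mem_top _) (fun a ha => mem_subgroupOf.2 (hA ha)) (by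
        rintro _ ⟨a, ha, rfl⟩
        exact mem_subgroupOf.2 (hyA ⟨_, ha, rfl⟩))
    have hm := hc.map Y.subtype
    rw [show ((S' : Subgroup Y)).map Y.subtype = T from hTe,
      Set.image_preimage_eq_of_subset (fun a ha => ⟨⟨a, hT.le (hA ha)⟩, rfl⟩)] at hm
    refine hm.weaken ?_
    rintro _ ⟨N, hN, rfl⟩
    rcases hN with rfl | rfl
    · refine ⟨_, Or.inl rfl, ?_⟩
      rintro _ ⟨z, hz, rfl⟩
      refine ⟨z.2, ?_⟩
      rw [SetLike.mem_coe] at hz ⊢
      conv => rw [← hTe, jh_map Y.subtype_injective]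
      exact le_normalizer_map Y.subtype ⟨z, hz, rfl⟩
    · refine ⟨_, Or.inr rfl, ?_⟩
      rintro _ ⟨z, hz, rfl⟩
      refine ⟨z.2, ?_⟩
      rw [SetLike.mem_coe] at hz ⊢
      conv => rw [← hTe, zF_map Y.subtype_injective]
      exact map_centralizer_le Y.subtype hz
  set 𝒩 := pairSet (S : Subgroup G) with h𝒩
  by_cases hS : (S : Subgroup G) = ⊥
  · intro A x _ hA _
    exact Ctrl.of_subset_bot (hS ▸ hA)
  set Q := Cfsg.pCore 2 G
  have hQn : Q.Normal := Core.pCore_normal
  have hQp : IsPGroup 2 Q := Core.pCore_isPGroup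
  have hQS : Q ≤ S := Core.pCore_le_sylow S
  by_cases hQ : Q = ⊥
  · refine Control.fusion_of_local (pairData S hS) fun F hF hadm R hR => ?_
    refine hsub _ R (fun e => ?_) hR
    have hFn : F.Normal := normalizer_eq_top_iff.1 e
    obtain ⟨g, H, hZH, hHS, rfl⟩ := hadm
    have hle : cjSub g H ≤ ⊥ := hQ ▸ Core.le_pCore (S.2.to_le hF)
    exact zF_ne_bot S.2 hS (eq_bot_iff.2 (hZH.trans
      ((map_eq_bot_iff_of_injective H (MulAut.conj g).injective).1 (le_bot_iff.1 hle)).le))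
  -- a nontrivial core
  let Good : Set G → G → Prop := fun A g => Ctrl 𝒩 (S : Subgroup G) A g
  have hG : GoodRel S Good :=
    { mono := fun h hB => h.mono hB
      trans := fun h1 h2 => h1.trans h2
      inv := fun h hA => h.inv hA
      congr := fun h1 heq => h1.of_eqOn heq }
  have hsubS : ∀ Y : Subgroup G, Y ≠ ⊤ → (S : Subgroup G) ≤ Y → ∀ (A : Set G) (y : G), y ∈ Y →
      A ⊆ (S : Subgroup G) → Control.cj y A ⊆ (S : Subgroup G) → Good A y := fun Y hY hSY A y hy hA hyA =>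
    (hsub Y _ hY ((Control.sylIn_top S).mono hSY le_top) A y hy hA hyA).weaken fun N hN => by
      rcases hN with rfl | rfl
      · exact ⟨_, Or.inl rfl, inf_le_right⟩
      · exact ⟨_, Or.inr rfl, inf_le_right⟩
  intro A x _ hA hxA
  refine Ctrl.mono (Control.skeleton S hG ?_ ?_ (closure A) ((closure_le _).2 hA) x
    (Control.closure_subset_of_cj hxA)) subset_closure
  · intro m hm
    exact Ctrl.of_mem (Or.inl rfl) (mem_normalizer_jh hm)
      (by rw [← Control.coe_cjSub, Control.cjSub_eq_of_mem hm])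
  intro F hF hsyl _ habove m hm
  set X := normalizer (F : Set G)
  set R := (S : Subgroup G) ⊓ X
  have hFS : F ≤ S := hF.le
  have hcj : ∀ {y : G}, y ∈ X → Control.cj y (F : Set G) ⊆ (S : Subgroup G) := fun hy => by
    rw [← Control.coe_cjSub, Control.cjSub_eq_of_mem hy]
    exact hFS
  have htrans : ∀ {y z : G}, y ∈ X → Good (F : Set G) y → Good (F : Set G) z → Good (F : Set G) (z * y) :=
    fun {y z} hy h1 h2 => hG.trans h1 (by rwa [← Control.coe_cjSub, Control.cjSub_eq_of_mem hy])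
  have hbig : ∀ F' : Subgroup G, F' ≤ S → ¬ F' ≤ F → ∀ y ∈ X, y ∈ normalizer (F' : Set G) →
      Good (F : Set G) y := by
    intro F' hF' hn y hy hy'
    refine hG.mono (habove (F ⊔ F') (Core.card_lt_of_lt (left_lt_sup.2 hn)) (sup_le hFS hF') y ?_)
      (SetLike.coe_subset_coe.2 le_sup_left)
    rw [cjSub, Subgroup.map_sup]
    exact sup_le ((Control.cjSub_eq_of_mem hy).le.trans hFS) ((Control.cjSub_eq_of_mem hy').le.trans hF')
  by_cases hQF : Q ≤ F
  swap
  · exact hbig Q hQS hQF m hm (by rw [normalizer_eq_top_iff.2 hQn]; exact mem_top _)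
  by_cases hcen : (S : Subgroup G) ⊓ centralizer (F : Set G) ≤ F
  swap
  · set U₀ := (S : Subgroup G) ⊓ centralizer (F : Set G)
    have hCX : centralizer (F : Set G) ≤ X := centralizer_le_normalizer _
    have hXC : X ≤ normalizer (centralizer (F : Set G) : Set G) := fun y hy =>
      Control.mem_normalizer_of_cjSub_eq (by rw [Control.cjSub_centralizer, Control.cjSub_eq_of_mem hy])
    have hSyl : SylIn 2 U₀ (centralizer (F : Set G)) := by
      have := hsyl.inf_normal hCX hXC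
      rwa [inf_assoc, inf_eq_right.2 hCX] at this
    obtain ⟨d, hd, hdU⟩ := hSyl.exists_cjSub_le (Control.isPGroup_cjSub (g := m) hSyl.isPGroup)
      ((map_mono inf_le_right).trans (Control.cjSub_eq_of_mem (hXC hm)).le)
    rw [Control.cjSub_cjSub] at hdU
    have hdm : d * m ∈ normalizer (U₀ : Set G) :=
      Control.mem_normalizer_of_cjSub_eq (eq_of_le_of_card_ge hdU (Control.card_cjSub _ _).ge)
    refine hG.congr (hbig U₀ inf_le_left hcen (d * m) (mul_mem (hCX hd) hm) hdm) fun z hz => ?_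
    have hmz : m * z * m⁻¹ ∈ F := (mem_normalizer_iff.1 hm z).1 hz
    calc d * m * z * (d * m)⁻¹ = d * (m * z * m⁻¹) * d⁻¹ := by group
      _ = m * z * m⁻¹ := by rw [← mem_centralizer_iff.1 hd _ hmz, mul_inv_cancel_right]
  -- the part inside a normal subgroup
  have hsplit : ∀ C : Subgroup G, C.Normal →
      (∀ c ∈ C ⊓ X, Good (F : Set G) c) →
      ((S : Subgroup G) ⊓ C ≤ F → ∀ y ∈ X, y ∈ normalizer (((S : Subgroup G) ⊓ C : Subgroup G) : Set G) →
        Good (F : Set G) y) → Good (F : Set G) m := by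
    intro C hC hc hn
    obtain ⟨c, hcC, y, hy, rfl⟩ := frattini_in hsyl
      (show X ≤ normalizer (C : Set G) by rw [normalizer_eq_top_iff.2 hC]; exact le_top) hm
    refine htrans (mem_inf.1 hy).1 ?_ (hc c hcC)
    by_cases hRC : R ⊓ C ≤ F
    swap
    · exact hbig _ (inf_le_left.trans inf_le_left) hRC y (mem_inf.1 hy).1 (mem_inf.1 hy).2
    have hTF : (S : Subgroup G) ⊓ C ≤ F := by
      refine le_of_inf_normalizer_le S.2 hFS inf_le_left ?_ fun z hz => hRC ?_
      · refine (le_inf (hFS.trans le_normalizer) ?_).trans inf_normalizer_le_normalizer_inf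
        rw [normalizer_eq_top_iff.2 hC]; exact le_top
      · obtain ⟨hz1, hz2⟩ := mem_inf.1 hz
        exact mem_inf.2 ⟨mem_inf.2 ⟨(mem_inf.1 hz1).1, hz2⟩, (mem_inf.1 hz1).2⟩
    have e : R ⊓ C = (S : Subgroup G) ⊓ C :=
      le_antisymm (inf_le_inf_right C inf_le_left)
        (le_inf (le_inf inf_le_left (hTF.trans le_normalizer)) inf_le_right)
    exact hn hTF y (mem_inf.1 hy).1 (e ▸ (mem_inf.1 hy).2)
  by_cases hT0 : (S : Subgroup G) ⊓ centralizer (Q : Set G) ≤ Q
  · -- a constrained group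
    have hfac := (cent_fac h S hT0).1
    set Z := zF (S : Subgroup G)
    set C := centralizer (normalClosure (Z : Set G) : Set G)
    have hCn : C.Normal := inferInstance
    have hjC : jh (S : Subgroup G) ≤ C := by
      refine le_centralizer_iff.1 ((closure_le _).2 ?_)
      intro w hw
      obtain ⟨z, hz, hconj⟩ := Group.mem_conjugatesOfSet_iff.1 hw
      obtain ⟨g, rfl⟩ := isConj_iff.1 hconj
      obtain ⟨c, hc, k, hk, e⟩ := hfac g⁻¹
      have hg : g = k⁻¹ * c⁻¹ := by rw [← mul_inv_rev, ← e, inv_inv]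
      have hcz : c⁻¹ * z * c = z := by
        rw [mul_assoc, mem_centralizer_iff.1 hc z hz, inv_mul_cancel_left]
      refine mem_centralizer_iff.2 fun j hj => ?_
      have hj' : k * j * k⁻¹ ∈ jh (S : Subgroup G) := (mem_normalizer_iff.1 hk j).1 hj
      have hcm : k * j * k⁻¹ * z = z * (k * j * k⁻¹) :=
        (mem_centralizer_iff.1 (mem_inf.1 hz).2 _ (jh_le _ hj')).trans rfl
      subst hg
      rw [show k⁻¹ * c⁻¹ * z * (k⁻¹ * c⁻¹)⁻¹ = k⁻¹ * (c⁻¹ * z * c) * k by group, hcz]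
      calc j * (k⁻¹ * z * k) = k⁻¹ * (k * j * k⁻¹ * z) * k := by group
        _ = k⁻¹ * (z * (k * j * k⁻¹)) * k := by rw [hcm]
        _ = k⁻¹ * z * k * j := by group
    refine hsplit C hCn (fun c hc => ?_) fun hTF y hy _ => ?_
    · exact Ctrl.of_mem (Or.inr rfl) (centralizer_le subset_normalClosure (mem_inf.1 hc).1) (hcj (mem_inf.1 hc).2)
    · refine Ctrl.of_mem (Or.inl rfl) ?_ (hcj hy)
      rw [← jh_eq_of_le hFS ((le_inf (jh_le _) hjC).trans hTF)]
      exact mem_normalizer_jh hy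
  -- the centralizer of the core is large
  set C := centralizer (Q : Set G)
  have hCn : C.Normal := inferInstance
  set T0 := (S : Subgroup G) ⊓ C
  have hN0 : normalizer (T0 : Set G) ≠ ⊤ := fun e => by
    have : T0.Normal := normalizer_eq_top_iff.1 e
    exact hT0 (Core.le_pCore (S.2.to_le inf_le_left))
  have hSN0 : (S : Subgroup G) ≤ normalizer (T0 : Set G) :=
    (le_inf le_normalizer (by rw [normalizer_eq_top_iff.2 hCn]; exact le_top)).trans
      inf_normalizer_le_normalizer_inf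
  refine hsplit C hCn (fun c hc => ?_) fun _ y hy hy' =>
    hsubS _ hN0 hSN0 _ y hy' hFS (hcj hy)
  obtain ⟨hcC, hcX⟩ := mem_inf.1 hc
  by_cases hCS : C ⊔ (S : Subgroup G) = ⊤
  swap
  · exact hsubS _ hCS le_sup_right _ c (mem_sup_left hcC) hFS (hcj hcX)
  -- odd elements centralise the core
  set π := QuotientGroup.mk' Q
  have hπ := QuotientGroup.mk'_surjective Q
  let Sb := S.mapSurjective hπ
  have hSb : (Sb : Subgroup (G ⧸ Q)) ≠ ⊥ := fun e => hT0 fun z hz =>
    (QuotientGroup.eq_one_iff z).1 (mem_bot.1 (e ▸ mem_map_of_mem π (mem_inf.1 hz).1))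
  have hlt : Nat.card (G ⧸ Q) < Nat.card G := by
    have h1 := Subgroup.card_eq_card_quotient_mul_card_subgroup Q
    have h2 := (Q.one_lt_card_iff_ne_bot).2 hQ
    rw [h1]
    exact lt_mul_of_one_lt_right Nat.card_pos h2
  have hpre : ∀ z : G, π z ∈ (Sb : Subgroup (G ⧸ Q)) → z ∈ (S : Subgroup G) := by
    rintro z ⟨s, hs, e⟩
    have := mul_mem hs (hQS ((QuotientGroup.eq (s := Q)).1 e))
    rwa [mul_inv_cancel_left] at this
  have hprop : ∀ N ∈ pairSet (Sb : Subgroup (G ⧸ Q)), N.comap π ≠ ⊤ ∧ (S : Subgroup G) ≤ N.comap π := by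
    have hnb : ∀ U : Subgroup (G ⧸ Q), U ≤ (Sb : Subgroup (G ⧸ Q)) → U.Normal → U = ⊥ := fun U hU hUn =>
      le_bot_iff.1 ((Core.le_pCore (p := 2) (Sb.2.to_le hU)).trans Core.pCore_quotient_eq_bot.le)
    rintro N (rfl | rfl) <;> refine ⟨fun e => ?_, ?_⟩
    · have htop := comap_injective hπ (e.trans (comap_top π).symm)
      have hb := hnb _ (jh_le _) (normalizer_eq_top_iff.1 htop)
      exact zF_ne_bot Sb.2 hSb (eq_bot_iff.2 (hb ▸ center_le_jh _))
    · exact fun s hs => mem_normalizer_jh (le_normalizer (mem_map_of_mem π hs))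
    · have htop := comap_injective hπ (e.trans (comap_top π).symm)
      refine zF_ne_bot Sb.2 hSb (hnb _ inf_le_left ⟨fun z hz g => ?_⟩)
      have hg := mem_centralizer_iff.1 (htop.ge (mem_top g)) z hz
      rwa [← hg, mul_inv_cancel_right]
    · exact fun s hs => le_centralizer_iff.1 inf_le_right (mem_map_of_mem π hs)
  obtain ⟨cb, hcb, hce⟩ := ih _ hlt (G ⧸ Q) rfl (h.of_surjective π hπ) Sb (π '' (F : Set G)) (π c) (mem_top _)
    (by rintro _ ⟨u, hu, rfl⟩; exact mem_map_of_mem π (hFS hu))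
    (by
      rintro _ ⟨_, ⟨u, hu, rfl⟩, rfl⟩
      exact ⟨c * u * c⁻¹, hcj hcX ⟨u, hu, rfl⟩, by simp only [map_mul, map_inv]; rfl⟩)
  have lift : ∀ {cb : G ⧸ Q}, Control.Reach (pairSet (Sb : Subgroup (G ⧸ Q))) (Sb : Subgroup (G ⧸ Q))
      (π '' (F : Set G)) cb → ∃ y : G, π y = cb ∧ Good (F : Set G) y ∧
        Control.cj y (F : Set G) ⊆ (S : Subgroup G) := by
    intro cb hcb
    induction hcb with
    | one => exact ⟨1, map_one π, Ctrl.one, by rw [Control.cj_one]; exact hFS⟩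
    | @step c' z N _ hN hz hzA ihc =>
      obtain ⟨y, rfl, hy, hyS⟩ := ihc
      obtain ⟨w, rfl⟩ := hπ z
      have hwS : Control.cj (w * y) (F : Set G) ⊆ (S : Subgroup G) := by
        rintro _ ⟨u, hu, rfl⟩
        exact hpre _ (hzA ⟨π u, ⟨u, hu, rfl⟩, by simp only [map_mul, map_inv]; rfl⟩)
      refine ⟨w * y, map_mul π w y, hG.trans hy ?_, hwS⟩
      exact hsubS _ (hprop N hN).1 (hprop N hN).2 _ w hz hyS (by rw [← Control.cj_mul]; exact hwS)
  obtain ⟨y, rfl, hy, -⟩ := lift hcb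
  have hmod : ∀ u ∈ F, ((y * u * y⁻¹)⁻¹ * (c * u * c⁻¹)) ∈ Q := fun u hu =>
    QuotientGroup.eq.1 (by
      have := hce _ ⟨u, hu, rfl⟩
      rwa [← map_inv, ← map_inv, ← map_mul, ← map_mul, ← map_mul, ← map_mul] at this)
  have hyX : y ∈ X := QdFree.ZJControl.mem_normalizer_of_conj fun u hu => by
    have := mul_mem ((mem_normalizer_iff.1 hcX u).1 hu) (inv_mem (hQF (hmod u hu)))
    rwa [mul_inv_rev, inv_inv, mul_inv_cancel_left] at this
  -- the residue
  have hEn : X ≤ normalizer ((centralizer (F.map π : Set (G ⧸ Q))).comap π : Set G) := by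
    refine le_trans ?_ (le_normalizer_comap π)
    rw [← map_le_iff_le_comap]
    intro z hz
    obtain ⟨w, hw, rfl⟩ := hz
    refine Control.mem_normalizer_of_cjSub_eq ?_
    rw [Control.cjSub_centralizer]
    refine congrArg (fun K : Subgroup (G ⧸ Q) => centralizer (K : Set (G ⧸ Q))) ?_
    exact Control.cjSub_eq_of_mem (le_normalizer_map π (mem_map_of_mem π hw))
  set D := (centralizer (F.map π : Set (G ⧸ Q))).comap π ⊓ X
  have hd : y⁻¹ * c ∈ D := by
    refine mem_inf.2 ⟨mem_centralizer_iff.2 ?_, mul_mem (inv_mem hyX) hcX⟩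
    rintro _ ⟨u, hu, rfl⟩
    refine (show Commute (π (y⁻¹ * c)) (π u) from ?_).eq.symm
    refine commute_mk_iff.2 ?_
    have h1 := hmod u hu
    have h2 := hQn.conj_mem _ h1 y⁻¹
    have h3 : y⁻¹ * (c * u * c⁻¹) * y * u⁻¹ ∈ Q := by
      have h4 := hQn.conj_mem _ h1 (y * u * y⁻¹)
      rw [show y * u * y⁻¹ * ((y * u * y⁻¹)⁻¹ * (c * u * c⁻¹)) * (y * u * y⁻¹)⁻¹ =
        c * u * c⁻¹ * (y * u⁻¹ * y⁻¹) by group] at h4
      have h5 := hQn.conj_mem _ h4 y⁻¹
      rwa [show y⁻¹ * (c * u * c⁻¹ * (y * u⁻¹ * y⁻¹)) * y⁻¹⁻¹ =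
        y⁻¹ * (c * u * c⁻¹) * y * u⁻¹ by group] at h5
    rwa [show y⁻¹ * c * u * (y⁻¹ * c)⁻¹ * u⁻¹ = y⁻¹ * (c * u * c⁻¹) * y * u⁻¹ by group]
  have hdec : ∀ d ∈ D, Good (F : Set G) d := by
    have hDX : X ≤ normalizer (D : Set G) := (le_inf hEn le_normalizer).trans inf_normalizer_le_normalizer_inf
    have hDs : SylIn 2 (R ⊓ D) D := hsyl.inf_normal inf_le_right hDX
    have hCD : D ≤ normalizer (centralizer (F : Set G) : Set G) := fun z hz =>
      Control.mem_normalizer_of_cjSub_eq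
        (by rw [Control.cjSub_centralizer, Control.cjSub_eq_of_mem (mem_inf.1 hz).2])
    let H := (centralizer (F : Set G) ⊓ D) ⊔ (R ⊓ D)
    let SD : Sylow 2 D := (hDs.isPGroup.comap_subtype (K := D)).toSylow hDs.not_dvd
    have hH : H.subgroupOf D = ⊤ := by
      refine eq_top_of_odd SD (fun z hz => mem_subgroupOf.2 (mem_sup_right (mem_subgroupOf.1 hz))) fun z hz => ?_
      refine mem_subgroupOf.2 (mem_sup_left (mem_inf.2 ⟨?_, z.2⟩))
      have hzo : Odd (orderOf (z : G)) := by rwa [orderOf_coe]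
      refine mem_centralizer_iff.2 fun u hu => (QdFree.ZJControl.commute_of_stable hQp
        (Nat.coprime_two_right.2 hzo) (mem_of_odd S hCS hzo) ?_).eq.symm
      exact commute_mk_iff.1 (mem_centralizer_iff.1 (mem_inf.1 z.2).1 _ (mem_map_of_mem π hu)).symm
    intro d hd
    have hdH : d ∈ H := mem_subgroupOf.1 (hH.ge (mem_top (⟨d, hd⟩ : D)))
    obtain ⟨e, he, r, hr, rfl⟩ := (Coprime.mem_sup_of_le_normalizer
      ((le_inf (inf_le_right.trans hCD) (inf_le_right.trans le_normalizer)).trans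
        inf_normalizer_le_normalizer_inf)).1 hdH
    have hrX : r ∈ X := (mem_inf.1 (mem_inf.1 hr).1).2
    refine htrans hrX (Ctrl.of_mem (Or.inl rfl)
      (mem_normalizer_jh (le_normalizer (mem_inf.1 (mem_inf.1 hr).1).1)) (hcj hrX)) ?_
    refine hG.congr (Ctrl.one (𝒩 := 𝒩)) fun u hu => ?_
    rw [one_mul, inv_one, mul_one]
    exact (mul_inv_eq_iff_eq_mul.2 (mem_centralizer_iff.1 (mem_inf.1 he).1 u hu).symm).symm
  have := htrans (mul_mem (inv_mem hyX) hcX) (hdec _ hd) hy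
  rwa [mul_inv_cancel_left] at this

theorem pair_fusion (h : SecHyp G) (S : Sylow 2 G) :
    FusCtrl (pairSet (S : Subgroup G)) (S : Subgroup G) ⊤ := pair_aux _ G rfl h S

end Cfsg.Agent.S4Comp
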